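import Groth.Prelude.Def_HopfRep
import Groth.Prelude.Def_ComodSub
import Groth.Agent.S7960
import Groth.Agent.Comod.Basic
import Groth.Agent.FiniteGrp.Deriv
import Groth.Agent.HopfPts.CharZero
import Groth.Agent.HopfTr48.Connected

/-!
Unipotent groups in characteristic zero: connectedness, and Lie algebra criteria for representations.
-/

set_option autoImplicit false
set_option linter.unusedSectionVars false
set_option linter.style.haveILetI false
open TensorProduct WithConv

namespace Groth.Agent.H85.UnipConn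

open Groth.Agent.FiniteGrp

universe u v w

variable {k : Type u} [Field k] {A : Type v} [CommRing A] [Bialgebra k A]

local notation "ε" => Bialgebra.counitAlgHom k A

/-- Euler operator argument: a set in the augmentation ideal, stable under derivations lifting all
point derivations, lies in all powers of the augmentation ideal. -/
theorem mem_pow [CharZero k] [IsNoetherianRing A] (Dop : ∀ ξ : A →ₗ[k] k, Deriv.IsPt ξ → Derivation k A A)
    (hD : ∀ ξ h a, ε (Dop ξ h a) = ξ a) (W : Set A) (hW0 : ∀ a ∈ W, ε a = 0)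
    (hWD : ∀ a ∈ W, ∀ ξ h, Dop ξ h a ∈ W) (n : ℕ) :
    ∀ a ∈ W, a ∈ (RingHom.ker (ε) : Ideal A) ^ n := by
  classical
  set I : Ideal A := RingHom.ker (ε)
  obtain ⟨S, hS⟩ := (IsNoetherian.noetherian I : I.FG)
  set M2 : Submodule k A := (I ^ 2).restrictScalars k ⊔ Submodule.span k {1}
  obtain ⟨U, hU⟩ := M2.exists_isCompl
  let b := Module.Basis.ofVectorSpace k U
  set ι := Module.Basis.ofVectorSpaceIndex k U
  let P := Submodule.projectionOnto U M2 hU.symm
  let η : ι → A →ₗ[k] k := fun i => b.coord i ∘ₗ P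
  have hη0 : ∀ i, ∀ q ∈ M2, η i q = 0 := fun i q hq => by
    simp [η, P, (Submodule.projectionOnto_apply_eq_zero_iff hU.symm).mpr hq]
  have h1 : (1 : A) ∈ M2 := Submodule.mem_sup_right (Submodule.mem_span_singleton_self 1)
  have hpt : ∀ i, Deriv.IsPt (η i) := by
    intro i x y
    have hmem : (x - algebraMap k A (ε x)) * (y - algebraMap k A (ε y)) ∈ M2 := by
      refine Submodule.mem_sup_left ?_
      rw [Submodule.restrictScalars_mem, sq]
      exact Ideal.mul_mem_mul (RingHom.mem_ker.mpr (by simp)) (RingHom.mem_ker.mpr (by simp))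
    have : x * y = (x - algebraMap k A (ε x)) * (y - algebraMap k A (ε y)) +
        ε x • y + ε y • x - (ε x * ε y) • (1 : A) := by
      rw [Algebra.smul_def, Algebra.smul_def, Algebra.smul_def, map_mul]; ring
    rw [this, map_sub, map_add, map_add, hη0 i _ hmem, map_smul, map_smul, map_smul, hη0 i _ h1]
    simp
  let F : Finset ι := S.biUnion fun y => (b.repr (P y)).support
  let x : ι → A := fun i => (b i : A) - algebraMap k A (ε (b i : A))
  have hxI : ∀ i, x i ∈ I := fun i => RingHom.mem_ker.mpr (by simp [x])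
  let E : Derivation k A A := ∑ i ∈ F, x i • Dop (η i) (hpt i)
  have hE : ∀ a, E a = ∑ i ∈ F, x i * Dop (η i) (hpt i) a := fun a => by
    have : (⇑E : A → A) = ⇑(∑ i ∈ F, x i • Dop (η i) (hpt i)) := rfl
    simp only [this, ← Derivation.coeFnAddMonoidHom_apply, map_sum, Finset.sum_apply]
    exact Finset.sum_congr rfl fun i _ => rfl
  have hEI : ∀ a, E a ∈ I := fun a => by
    rw [hE]; exact sum_mem fun i _ => Ideal.mul_mem_right _ _ (hxI i)
  have hgen : ∀ y ∈ S, E y - y ∈ I ^ 2 := by
    intro y hy
    have hyI : y ∈ I := hS ▸ Ideal.subset_span hy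
    have hε : ε y = 0 := RingHom.mem_ker.mp hyI
    have hxy : y - ∑ i ∈ F, η i y • x i ∈ I ^ 2 := by
      obtain ⟨q, hq, u, hu, hqu⟩ := Submodule.mem_sup.mp
        (hU.sup_eq_top.symm ▸ Submodule.mem_top : y ∈ M2 ⊔ U)
      have hu' : (P y : A) = u := by
        rw [← hqu, map_add, (Submodule.projectionOnto_apply_eq_zero_iff hU.symm).mpr hq, zero_add,
          Submodule.projectionOnto_apply_left hU.symm ⟨u, hu⟩]
      have hsum : ∑ i ∈ F, η i y • (b i : A) = u := by
        rw [← hu']
        conv_rhs => rw [← b.linearCombination_repr (P y), Finsupp.linearCombination_apply]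
        rw [Finsupp.sum_of_support_subset (b.repr (P y)) (Finset.subset_biUnion_of_mem
            (fun y => (b.repr (P y)).support) hy) (fun i c => c • b i) (fun i _ => zero_smul k _)]
        simp [η, F]
      have hmem : y - ∑ i ∈ F, η i y • x i ∈ M2 := by
        simp only [x, smul_sub, Finset.sum_sub_distrib, hsum, ← sub_add]
        refine M2.add_mem ?_ (sum_mem fun i _ => M2.smul_mem _ ?_)
        · rw [← hqu, add_sub_cancel_right]; exact hq
        · rw [Algebra.algebraMap_eq_smul_one]; exact M2.smul_mem _ h1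
      obtain ⟨m, hm, c, hc, hmc⟩ := Submodule.mem_sup.mp hmem
      obtain ⟨r, rfl⟩ := Submodule.mem_span_singleton.mp hc
      have hm0 : ε m = 0 := RingHom.mem_ker.mp (Ideal.pow_le_self two_ne_zero hm)
      have h := congrArg (ε) hmc
      rw [map_add, map_smul, hm0, map_one, zero_add, map_sub, map_sum, hε, Finset.sum_eq_zero
        (fun i _ => by rw [map_smul, RingHom.mem_ker.mp (hxI i), smul_zero]),
        sub_zero, smul_eq_mul, mul_one] at h
      rw [h, zero_smul, add_zero] at hmc
      exact hmc ▸ hm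
    have h2 : E y - ∑ i ∈ F, η i y • x i ∈ I ^ 2 := by
      rw [hE, ← Finset.sum_sub_distrib]
      refine sum_mem fun i _ => ?_
      rw [Algebra.smul_def, mul_comm (algebraMap k A (η i y)), ← mul_sub, sq]
      exact Ideal.mul_mem_mul (hxI i) (RingHom.mem_ker.mpr (by rw [map_sub, AlgHom.commutes, hD]; simp))
    have := sub_mem h2 hxy
    simpa using this
  have hone : ∀ y ∈ I, E y - y ∈ I ^ 2 := by
    intro y hy
    rw [← hS] at hy
    induction hy using Submodule.span_induction with
    | mem z hz => exact hgen z hz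
    | zero => simp
    | add z z' _ _ hz hz' => rw [map_add, add_sub_add_comm]; exact add_mem hz hz'
    | smul c z hzmem hz =>
      rw [smul_eq_mul, E.leibniz, smul_eq_mul, smul_eq_mul,
        show c * E z + z * E c - c * z = c * (E z - z) + z * E c by ring]
      refine add_mem (Ideal.mul_mem_left _ _ hz) ?_
      rw [sq]
      exact Ideal.mul_mem_mul (hS ▸ hzmem) (hEI c)
  have hEn : ∀ (n : ℕ), ∀ y ∈ I ^ n, 1 ≤ n → E y - (n : A) * y ∈ I ^ (n + 1) := by
    intro n
    induction n with
    | zero => intro y _ h; omega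
    | succ n ih =>
      intro y hy _
      rcases Nat.eq_zero_or_pos n with rfl | hn
      · simpa using hone y (by simpa using hy)
      rw [pow_succ] at hy
      induction hy using Submodule.mul_induction_on' with
      | mem_mul_mem a ha c hc =>
        rw [E.leibniz, smul_eq_mul, smul_eq_mul, show a * E c + c * E a - ((n + 1 : ℕ) : A) * (a * c) =
          a * (E c - c) + (E a - (n : A) * a) * c by push_cast; ring]
        refine add_mem ?_ ?_
        · rw [show n + 1 + 1 = n + 2 from rfl, pow_add]; exact Ideal.mul_mem_mul ha (hone c hc)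
        · rw [pow_succ]; exact Ideal.mul_mem_mul (ih a ha hn) hc
      | add a _ c _ ha hc =>
        rw [map_add, mul_add, add_sub_add_comm]; exact add_mem ha hc
  induction n with
  | zero => intro a _; simp
  | succ n ih =>
    intro a ha
    rcases Nat.eq_zero_or_pos n with rfl | hn
    · simpa [I, RingHom.mem_ker] using hW0 a ha
    have h := hEn n a (ih a ha) hn
    have hEa : E a ∈ I ^ (n + 1) := by
      rw [hE]
      refine sum_mem fun i _ => ?_
      rw [pow_succ']
      exact Ideal.mul_mem_mul (hxI i) (ih _ (hWD a ha _ _))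
    have hna : (n : A) * a ∈ I ^ (n + 1) := by simpa using sub_mem hEa h
    have h3 := Ideal.mul_mem_left (I ^ (n + 1)) (algebraMap k A (n : k)⁻¹) hna
    rwa [← mul_assoc, ← map_natCast (algebraMap k A), ← map_mul,
      inv_mul_cancel₀ (Nat.cast_ne_zero.mpr hn.ne'), map_one, one_mul] at h3

/-- the comultiplication with its factors exchanged -/
noncomputable def comulOp : A →ₐ[k] A ⊗[k] A :=
  (Algebra.TensorProduct.comm k A A).toAlgHom.comp (Bialgebra.comulAlgHom k A)

theorem sliceε_comulOp (a : A) : Deriv.sliceε (R := k) (comulOp (k := k) a) = a := by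
  have h : ∀ u : A ⊗[k] A, Deriv.sliceε (R := k) (Algebra.TensorProduct.comm k A A u) =
      TensorProduct.lid k A ((Coalgebra.counit (R := k) (A := A)).rTensor A u) := by
    intro u
    induction u using TensorProduct.induction_on with
    | zero => simp
    | add u v hu hv => simp only [map_add, hu, hv]
    | tmul x y => simp [Deriv.sliceε_tmul]
  show Deriv.sliceε (R := k) (Algebra.TensorProduct.comm k A A (Coalgebra.comul (R := k) a)) = a
  rw [h, Coalgebra.rTensor_counit_comul]
  simp

/-- the derivation `(ξ ⊗ id) ∘ Δ` -/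
noncomputable def derivOp (ξ : A →ₗ[k] k) (h : Deriv.IsPt ξ) : Derivation k A A :=
  Derivation.mk' (Deriv.slice ξ ∘ₗ (comulOp (k := k) (A := A)).toLinearMap) (fun a b => by
    have := Deriv.slice_mul ξ h (comulOp (k := k) a) (comulOp (k := k) b)
    rw [sliceε_comulOp, sliceε_comulOp, ← map_mul] at this
    simpa using this)

theorem derivOp_apply (ξ : A →ₗ[k] k) (h : Deriv.IsPt ξ) (a : A) :
    derivOp ξ h a = Deriv.slice ξ (TensorProduct.comm k A A (Coalgebra.comul (R := k) a)) := rfl

theorem counit_derivOp (ξ : A →ₗ[k] k) (h : Deriv.IsPt ξ) (a : A) :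
    ε (derivOp ξ h a) = ξ a := by
  have key : ∀ u : A ⊗[k] A, ε (Deriv.slice ξ (TensorProduct.comm k A A u)) =
      ξ (TensorProduct.rid k A ((Coalgebra.counit (R := k) (A := A)).lTensor A u)) := by
    intro u
    induction u using TensorProduct.induction_on with
    | zero => simp
    | add u v hu hv => simp only [map_add, hu, hv]
    | tmul x y => simp [Deriv.slice_tmul, mul_comm]
  rw [derivOp_apply, key, Coalgebra.lTensor_counit_comul]
  simp

theorem comul_derivOp (ξ : A →ₗ[k] k) (h : Deriv.IsPt ξ) (a : A) :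
    Coalgebra.comul (R := k) (derivOp ξ h a) =
      (derivOp ξ h : A →ₗ[k] A).rTensor A (Coalgebra.comul (R := k) a) := by
  have h1 : ∀ u : A ⊗[k] A,
      Coalgebra.comul (R := k) (Deriv.slice ξ (TensorProduct.comm k A A u)) =
      (Deriv.slice ξ ∘ₗ (TensorProduct.comm k A A).toLinearMap).rTensor A
        ((TensorProduct.assoc k A A A).symm ((Coalgebra.comul (R := k) (A := A)).lTensor A u)) := by
    intro u
    induction u using TensorProduct.induction_on with
    | zero => simp
    | add u w hu hw => simp only [map_add, hu, hw]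
    | tmul x y =>
      rw [TensorProduct.comm_tmul, Deriv.slice_tmul, map_smul, LinearMap.lTensor_tmul]
      generalize Coalgebra.comul (R := k) y = z
      induction z using TensorProduct.induction_on with
      | zero => simp
      | add z w hz hw => rw [smul_add, hz, hw, tmul_add, map_add, map_add]
      | tmul y₁ y₂ => simp [Deriv.slice_tmul, smul_tmul']
  have h2 : ((derivOp ξ h : A →ₗ[k] A)) =
      (Deriv.slice ξ ∘ₗ (TensorProduct.comm k A A).toLinearMap) ∘ₗ Coalgebra.comul (R := k) := rfl
  rw [h2, LinearMap.rTensor_comp, LinearMap.comp_apply, derivOp_apply, h1,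
    Coalgebra.coassoc_symm_apply]

section Primitive

variable {K : Type u} [Field K] [CharZero K] [IsAlgClosed K] {B : Type w} [CommRing B] [HopfAlgebra K B]
  [Algebra.FiniteType K B]

theorem prim_zero_algClosed {b s : B}
    (hb : Coalgebra.comul (R := K) b = b ⊗ₜ (1 : B) + (1 : B) ⊗ₜ b)
    (hs : Bialgebra.counitAlgHom K B s = 1) (hsb : s * b = 0) : b = 0 := by
  by_contra hb0
  obtain ⟨g, hg⟩ := HopfPts.exists_point_ne_zero_of_charZero (k := K) hb0
  let val : WithConv (B →ₐ[K] K) → K := fun x => x.ofConv b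
  have hadd : ∀ x y : WithConv (B →ₐ[K] K), val (x * y) = val x + val y := by
    intro x y
    show (x * y) b = _
    rw [AlgHom.convMul_apply, hb, map_add]
    simp [val]
  have hone : val 1 = 0 := by
    have := hadd 1 1
    rw [one_mul] at this
    exact left_eq_add.mp this
  set G := toConv g
  have hpow : ∀ n : ℕ, val (G ^ n) = n * val G := by
    intro n
    induction n with
    | zero => simpa using hone
    | succ n ih => rw [pow_succ, hadd, ih]; push_cast; ring
  let sn : ℕ → B := fun n => HopfTr48.transHom ((G ^ n)⁻¹).ofConv s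
  have htr : ∀ x : WithConv (B →ₐ[K] K), HopfTr48.transHom x.ofConv b = b + algebraMap K B (val x) := by
    intro x
    show (toConv ((Algebra.ofId K B).comp x.ofConv) * toConv (AlgHom.id K B)) b = _
    rw [AlgHom.convMul_apply, hb, map_add]
    simp [Algebra.ofId_apply, val, add_comm]
  have hev : ∀ (x y : WithConv (B →ₐ[K] K)) (a : B),
      y.ofConv (HopfTr48.transHom x.ofConv a) = (x * y).ofConv a := by
    intro x y a
    have h : y.ofConv.comp (HopfTr48.transHom x.ofConv) = (x * y).ofConv := by
      rw [HopfTr48.transHom, AlgHom.comp_convMul_distrib]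
      congr 2
      · apply WithConv.ofConv_injective
        ext c
        simp [Algebra.ofId_apply]
    exact DFunLike.congr_fun h a
  have hsn : ∀ n, (G ^ n).ofConv (sn n) = 1 := fun n => by
    rw [hev, inv_mul_cancel]
    show (1 : WithConv (B →ₐ[K] K)) s = 1
    rw [AlgHom.convOne_apply, ← Bialgebra.counitAlgHom_apply (R := K), hs, map_one]
  have hzero : ∀ n, sn n * (b - algebraMap K B (val (G ^ n))) = 0 := by
    intro n
    have h := congrArg (HopfTr48.transHom ((G ^ n)⁻¹).ofConv) hsb
    rw [map_mul, htr, map_zero] at h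
    have hinv : val ((G ^ n)⁻¹) = -val (G ^ n) := by
      have h2 := hadd (G ^ n)⁻¹ (G ^ n)
      rw [inv_mul_cancel, hone] at h2
      linear_combination -h2
    rw [hinv, map_neg, ← sub_eq_add_neg] at h
    exact h
  have hne : ∀ n m, m ≠ n → (G ^ n).ofConv (sn m) = 0 := by
    intro n m hmn
    have h := congrArg (G ^ n).ofConv (hzero m)
    rw [map_mul, map_sub, AlgHom.commutes, map_zero] at h
    refine (mul_eq_zero.mp h).resolve_right ?_
    show ¬(val (G ^ n) - algebraMap K K (val (G ^ m)) = 0)
    rw [Algebra.algebraMap_self, RingHom.id_apply, sub_eq_zero, hpow, hpow]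
    intro h'
    exact hmn (Nat.cast_injective (mul_right_cancel₀ hg h')).symm
  haveI : IsNoetherianRing B := Algebra.FiniteType.isNoetherianRing K B
  let L : ℕ → Ideal B := fun n => Ideal.span (sn '' Set.Iio n)
  have hmono : StrictMono L := strictMono_nat_of_lt_succ fun n => by
    refine lt_of_le_of_ne (Ideal.span_mono (Set.image_mono (Set.Iio_subset_Iio n.le_succ))) fun he => ?_
    have hle : L n ≤ RingHom.ker (G ^ n).ofConv := Ideal.span_le.mpr (by
      rintro _ ⟨m, hm, rfl⟩
      exact hne n m (ne_of_lt hm))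
    have hmem : sn n ∈ L n := he ▸ Ideal.subset_span ⟨n, Nat.lt_succ_self n, rfl⟩
    have h := RingHom.mem_ker.mp (hle hmem)
    rw [hsn] at h
    exact one_ne_zero h
  exact not_strictMono_of_wellFoundedGT L hmono

end Primitive

section Connected

variable {K : Type u} [Field K] [CharZero K] {B : Type v} [CommRing B] [HopfAlgebra K B]
  [Algebra.FiniteType K B]

theorem prim_zero {b s : B}
    (hb : Coalgebra.comul (R := K) b = b ⊗ₜ (1 : B) + (1 : B) ⊗ₜ b)
    (hs : Bialgebra.counitAlgHom K B s = 1) (hsb : s * b = 0) : b = 0 := by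
  let L := AlgebraicClosure K
  haveI : CharZero L := charZero_of_injective_algebraMap (algebraMap K L).injective
  have h := prim_zero_algClosed (K := L) (B := L ⊗[K] B) (b := 1 ⊗ₜ b) (s := 1 ⊗ₜ s) ?_ ?_ ?_
  · exact Algebra.TensorProduct.includeRight_injective (R := K) (A := L) (B := B)
      (algebraMap K L).injective (h.trans (map_zero _).symm)
  · rw [TensorProduct.comul_tmul, hb]
    simp [tmul_add, Algebra.TensorProduct.one_def]
  · rw [Bialgebra.counitAlgHom_apply] at hs ⊢
    simp [TensorProduct.counit_tmul, hs]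
  · rw [Algebra.TensorProduct.tmul_mul_tmul, hsb, tmul_zero]

omit [CharZero K] in
/-- the unipotent flag of a finite subcomodule of the regular comodule, inside the algebra -/
theorem exists_flag (hU : HopfRep.IsUnipotent K B) (a : B) :
    ∃ (m : ℕ) (G : ℕ → Submodule K B), G 0 = ⊥ ∧ a ∈ G m ∧
      ∀ i, ∀ v ∈ G (i + 1), ∀ φ : B →ₗ[K] K,
        Comod.slice φ (Coalgebra.comul (R := K) v - v ⊗ₜ[K] (1 : B)) ∈ G i := by
  obtain ⟨U, hUfin, haU, hUsub⟩ := Comod.exists_finite_subcomod (k := K) (A := B) (V := B) {a}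
  let cU : HopfRep.Comod K B U := ComodSub.Comod.restr (HopfRep.Comod.regular K B) U hUsub
  have hflag := (S7960.result K B).mp hU
  obtain ⟨m, F, -, hF0, hFm, -, hF⟩ := @hflag U _ _ cU hUfin
  refine ⟨m, fun i => (F i).map U.subtype, by simp [hF0],
    ⟨⟨a, haU (by simp)⟩, hFm ▸ Submodule.mem_top, rfl⟩, ?_⟩
  rintro i _ ⟨v, hv, rfl⟩ φ
  obtain ⟨x, hx⟩ := hF i v hv
  have h1 : LinearMap.rTensor B U.subtype (cU.coact v) = Coalgebra.comul (R := K) (v : B) :=
    ComodSub.restr_coact_coe (HopfRep.Comod.regular K B) U hUsub v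
  have h2 : LinearMap.rTensor B (U.subtype ∘ₗ (F i).subtype) x =
      Coalgebra.comul (R := K) (v : B) - (v : B) ⊗ₜ[K] (1 : B) := by
    rw [LinearMap.rTensor_comp, LinearMap.comp_apply, hx, map_sub, LinearMap.rTensor_tmul]
    exact congrArg₂ (· - ·) h1 rfl
  show Comod.slice φ (Coalgebra.comul (R := K) (v : B) - (v : B) ⊗ₜ[K] (1 : B)) ∈ _
  rw [← h2]
  clear hx h2
  induction x using TensorProduct.induction_on with
  | zero => simp
  | add x y hx hy => rw [map_add, map_add]; exact add_mem hx hy
  | tmul p q =>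
    rw [LinearMap.rTensor_tmul, Comod.slice_tmul]
    exact Submodule.smul_mem _ _ (Submodule.mem_map_of_mem p.2)

/-- functions killed by all the derivations `(ξ ⊗ id) ∘ Δ` are constants -/
theorem eq_scalar (hU : HopfRep.IsUnipotent K B) {a : B}
    (ha : ∀ ξ h, derivOp (k := K) ξ h a = 0) : ∃ c : K, a = algebraMap K B c := by
  classical
  haveI : IsNoetherianRing B := Algebra.FiniteType.isNoetherianRing K B
  let S : Submodule K B :=
    ⨅ (ξ : B →ₗ[K] K) (h : Deriv.IsPt ξ), LinearMap.ker (derivOp ξ h : B →ₗ[K] B)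
  have hS : ∀ {b}, b ∈ S ↔ ∀ ξ h, derivOp (k := K) ξ h b = 0 := fun {b} => by simp [S]
  have hstab : ∀ b ∈ S, ∀ φ : B →ₗ[K] K, Comod.slice φ (Coalgebra.comul (R := K) b) ∈ S := by
    intro b hb φ
    rw [hS]
    intro ξ h
    show (derivOp ξ h : B →ₗ[K] B) _ = 0
    rw [← Comod.slice_rTensor, ← comul_derivOp, hS.mp hb, map_zero, map_zero]
  obtain ⟨m, G, hG0, haG, hG⟩ := exists_flag hU a
  have key : ∀ i, ∀ v ∈ G i, v ∈ S → ∃ c : K, v = algebraMap K B c := by
    intro i
    induction i with
    | zero => intro v hv _; exact ⟨0, by rw [hG0, Submodule.mem_bot] at hv; simp [hv]⟩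
    | succ i ih =>
      intro v hv hvS
      set z := Coalgebra.comul (R := K) v - v ⊗ₜ[K] (1 : B) with hz
      have hsl : ∀ φ : B →ₗ[K] K, Comod.slice φ z ∈ Submodule.span K {(1 : B)} := by
        intro φ
        have h2 : Comod.slice φ z ∈ S := by
          rw [hz, map_sub, Comod.slice_tmul]
          exact sub_mem (hstab _ hvS φ) (S.smul_mem _ hvS)
        obtain ⟨c, hc⟩ := ih _ (hG i v hv φ) h2
        rw [hc, Algebra.algebraMap_eq_smul_one]
        exact Submodule.smul_mem _ c (Submodule.mem_span_singleton_self 1)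
      obtain ⟨y, hy⟩ := (Comod.mem_range_iff_slice _ z).mpr hsl
      obtain ⟨c, hc⟩ : ∃ c : B, z = (1 : B) ⊗ₜ c := by
        rw [← hy]
        clear hy
        induction y using TensorProduct.induction_on with
        | zero => exact ⟨0, by simp⟩
        | add y y' hy hy' =>
          obtain ⟨c, hc⟩ := hy
          obtain ⟨c', hc'⟩ := hy'
          exact ⟨c + c', by rw [map_add, hc, hc', tmul_add]⟩
        | tmul p q =>
          obtain ⟨r, hr⟩ := Submodule.mem_span_singleton.mp p.2
          exact ⟨r • q, by rw [LinearMap.rTensor_tmul, Submodule.subtype_apply, ← hr, smul_tmul]⟩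
      set e := Bialgebra.counitAlgHom K B v
      have hc2 : c = v - algebraMap K B e := by
        have h := congrArg (fun u => TensorProduct.lid K B ((Coalgebra.counit (R := K)).rTensor B u)) hc
        simp only [hz, map_sub, Coalgebra.rTensor_counit_comul, LinearMap.rTensor_tmul] at h
        simpa [Algebra.algebraMap_eq_smul_one, e] using h.symm
      set w := v - algebraMap K B e with hw
      have hprim : Coalgebra.comul (R := K) w = w ⊗ₜ (1 : B) + (1 : B) ⊗ₜ w := by
        have h : Coalgebra.comul (R := K) v = v ⊗ₜ 1 + 1 ⊗ₜ w := by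
          rw [← hc2, ← hc, hz]; abel
        rw [hw, map_sub, h, Bialgebra.comul_algebraMap, sub_tmul, Algebra.TensorProduct.algebraMap_apply, hw]
        abel
      have hwS : w ∈ S := sub_mem hvS (hS.mpr fun ξ h => (derivOp ξ h).map_algebraMap e)
      have hpow : w ∈ ⨅ n : ℕ, (RingHom.ker (Bialgebra.counitAlgHom K B) ^ n : Ideal B) • (⊤ : Ideal B) := by
        refine (Submodule.mem_iInf _).mpr fun n => ?_
        rw [smul_eq_mul, Ideal.mul_top]
        exact mem_pow derivOp counit_derivOp {b | Bialgebra.counitAlgHom K B b = 0 ∧ b ∈ S}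
          (fun b hb => hb.1) (fun b hb ξ h => by
            rw [hS.mp hb.2]; exact ⟨map_zero _, zero_mem _⟩)
          n w ⟨by simp [hw, e], hwS⟩
      obtain ⟨r, hr⟩ := (Ideal.mem_iInf_smul_pow_eq_bot_iff _ w).mp hpow
      have hw0 : w = 0 := by
        refine prim_zero hprim (s := 1 - (r : B)) ?_ ?_
        · rw [map_sub, map_one, RingHom.mem_ker.mp r.2, sub_zero]
        · rw [sub_mul, one_mul, ← smul_eq_mul, hr, sub_self]
      exact ⟨e, sub_eq_zero.mp hw0⟩
  exact key m a haG (hS.mpr ha)

/-- connectedness -/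
theorem idem_trivial (hU : HopfRep.IsUnipotent K B) (e : B) (he : IsIdempotentElem e) :
    e = 0 ∨ e = 1 := by
  haveI : Nontrivial B := (Bialgebra.counitAlgHom K B).toRingHom.domain_nontrivial
  obtain ⟨c, hc⟩ := eq_scalar hU (a := e) (fun ξ h => by
    set d := derivOp ξ h
    have h1 : d e = e * d e + e * d e := by
      conv_lhs => rw [← he.eq]
      rw [d.leibniz, smul_eq_mul]
    have h2 : e * d e = 0 := by
      have := congrArg (e * ·) h1
      simp only [mul_add, ← mul_assoc, he.eq] at this
      linear_combination -this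
    rw [h1, h2, add_zero])
  have h := (algebraMap K B).injective (show algebraMap K B (c * c) = algebraMap K B c by
    rw [map_mul, ← hc, he.eq])
  rcases IsIdempotentElem.iff_eq_zero_or_one.mp h with rfl | rfl
  · left; rw [hc, map_zero]
  · right; rw [hc, map_one]

end Connected

section Lie

variable {K : Type u} [Field K] [IsAlgClosed K] [CharZero K] {B : Type u} [CommRing B] [HopfAlgebra K B]
  [Algebra.FiniteType K B]

theorem isDomain (hU : HopfRep.IsUnipotent K B) : IsDomain B := by
  haveI : IsReduced B := ⟨fun b hb => by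
    by_contra h
    obtain ⟨g, hg⟩ := HopfPts.exists_point_ne_zero_of_charZero (k := K) h
    exact hg (hb.map g).eq_zero⟩
  exact HopfTr48.isDomain_of_connected (k := K) fun e he => idem_trivial hU e he

/-- a set in the augmentation ideal, stable under the invariant derivations, is zero -/
theorem eq_zero_of_stable (hU : HopfRep.IsUnipotent K B) (W : Set B)
    (hW0 : ∀ b ∈ W, Bialgebra.counitAlgHom K B b = 0)
    (hWD : ∀ b ∈ W, ∀ ξ (_ : Deriv.IsPt ξ), Comod.slice ξ (Coalgebra.comul (R := K) b) ∈ W)
    {b : B} (hb : b ∈ W) : b = 0 := by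
  haveI := isDomain hU
  haveI : IsNoetherianRing B := Algebra.FiniteType.isNoetherianRing K B
  have hne : (RingHom.ker (Bialgebra.counitAlgHom K B) : Ideal B) ≠ ⊤ := RingHom.ker_ne_top _
  have hmem : b ∈ ⨅ n, (RingHom.ker (Bialgebra.counitAlgHom K B) : Ideal B) ^ n :=
    (Submodule.mem_iInf _).mpr fun n =>
      mem_pow Deriv.deriv Deriv.counit_deriv W hW0 (fun c hc ξ h => hWD c hc ξ h) n b hb
  rwa [Ideal.iInf_pow_eq_bot_of_isDomain _ hne, Submodule.mem_bot] at hmem

variable {V : Type w} [AddCommGroup V] [Module K V] [HopfRep.Comod K B V]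

/-- matrix coefficient -/
noncomputable def coef (ψ : V →ₗ[K] K) : V →ₗ[K] B :=
  (TensorProduct.lid K B).toLinearMap ∘ₗ ψ.rTensor B ∘ₗ HopfRep.Comod.coact (k := K) (A := B)

theorem apply_coef (ψ : V →ₗ[K] K) (φ : B →ₗ[K] K) (v : V) :
    φ (coef (B := B) ψ v) = ψ (Comod.contract φ v) := by
  show φ (TensorProduct.lid K B (ψ.rTensor B (HopfRep.Comod.coact (k := K) (A := B) v))) =
    ψ (Comod.slice φ (HopfRep.Comod.coact (k := K) (A := B) v))
  generalize HopfRep.Comod.coact (k := K) (A := B) v = x
  induction x using TensorProduct.induction_on with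
  | zero => simp
  | add x y hx hy => simp only [map_add, hx, hy]
  | tmul p q => simp [mul_comm]

theorem counit_coef (ψ : V →ₗ[K] K) (v : V) : Bialgebra.counitAlgHom K B (coef (B := B) ψ v) = ψ v := by
  have h := apply_coef ψ (Coalgebra.counit (R := K) (A := B)) v
  rwa [Comod.contract_counit] at h

theorem slice_comul_coef (ψ : V →ₗ[K] K) (ξ : B →ₗ[K] K) (v : V) :
    Comod.slice ξ (Coalgebra.comul (R := K) (coef (B := B) ψ v)) = coef (B := B) ψ (Comod.contract ξ v) := by
  rw [← sub_eq_zero]
  refine (Module.forall_dual_apply_eq_zero_iff K _).mp fun φ => ?_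
  rw [map_sub, sub_eq_zero]
  rw [apply_coef, Comod.contract_contract, ← apply_coef]
  generalize coef (B := B) ψ v = b
  show φ (Comod.slice ξ (Coalgebra.comul (R := K) b)) = (toConv φ * toConv ξ) b
  rw [LinearMap.convMul_apply]
  generalize Coalgebra.comul (R := K) b = x
  induction x using TensorProduct.induction_on with
  | zero => simp
  | add x y hx hy => simp only [map_add, hx, hy]
  | tmul p q => simp [mul_comm]

/-- a subspace stable under the Lie algebra is a subcomodule -/
theorem isSubcomod_of_stable (hU : HopfRep.IsUnipotent K B) (U : Submodule K V)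
    (h : ∀ (ξ : B →ₗ[K] K), Deriv.IsPt ξ → ∀ v ∈ U, Comod.contract ξ v ∈ U) :
    HopfRep.IsSubcomod (k := K) (A := B) U := by
  intro v hv
  rw [Comod.mem_range_iff_slice]
  intro φ
  by_contra hne
  obtain ⟨ψ, hψ, hψU⟩ := Submodule.exists_dual_map_eq_bot_of_notMem hne inferInstance
  have h0 : ∀ u ∈ U, ψ u = 0 := fun u hu => by
    have := Submodule.mem_map_of_mem (f := ψ) hu
    rwa [hψU, Submodule.mem_bot] at this
  have hz : coef (B := B) ψ v = 0 := eq_zero_of_stable hU (coef (B := B) ψ '' (U : Set V))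
    (by rintro _ ⟨u, hu, rfl⟩; rw [counit_coef]; exact h0 u hu)
    (by rintro _ ⟨u, hu, rfl⟩ ξ hξ; rw [slice_comul_coef]; exact ⟨_, h ξ hξ u hu, rfl⟩)
    ⟨v, hv, rfl⟩
  have := apply_coef ψ φ v
  rw [hz, map_zero] at this
  exact hψ this.symm

/-- a vector killed by the Lie algebra is fixed -/
theorem fixed_of_killed (hU : HopfRep.IsUnipotent K B) (v : V)
    (h : ∀ (ξ : B →ₗ[K] K), Deriv.IsPt ξ → Comod.contract ξ v = 0) :
    HopfRep.Comod.coact (k := K) (A := B) v = v ⊗ₜ[K] (1 : B) := by
  rw [Comod.eq_tmul_iff_contract]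
  intro φ
  rw [← sub_eq_zero]
  refine (Module.forall_dual_apply_eq_zero_iff K _).mp fun ψ => ?_
  have hz : coef (B := B) ψ v - algebraMap K B (ψ v) = 0 := eq_zero_of_stable hU
    {b | Bialgebra.counitAlgHom K B b = 0 ∧ ∀ ξ, Deriv.IsPt ξ → Comod.slice ξ (Coalgebra.comul (R := K) b) = 0}
    (fun b hb => hb.1)
    (fun b hb ξ hξ => by rw [hb.2 ξ hξ]; exact ⟨map_zero _, fun _ _ => by simp⟩)
    ⟨by rw [map_sub, counit_coef, AlgHom.commutes]; simp, fun ξ hξ => by
      have h1 : ξ 1 = 0 := by
        have := hξ 1 1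
        simpa using this
      rw [map_sub, map_sub, slice_comul_coef, h ξ hξ, map_zero, Bialgebra.comul_algebraMap,
        Algebra.TensorProduct.algebraMap_apply, Comod.slice_tmul, h1, zero_smul, sub_zero]⟩
  have := apply_coef ψ φ v
  rw [sub_eq_zero.mp hz, Algebra.algebraMap_eq_smul_one, map_smul] at this
  simp only [map_sub, map_smul, ← this, smul_eq_mul]
  ring

variable {V' : Type w} [AddCommGroup V'] [Module K V'] [HopfRep.Comod K B V']

/-- infinitesimally equivariant maps are equivariant -/
theorem equivariant_of_lie (hU : HopfRep.IsUnipotent K B) (f : V →ₗ[K] V')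
    (h : ∀ (ξ : B →ₗ[K] K), Deriv.IsPt ξ → ∀ v, Comod.contract ξ (f v) = f (Comod.contract ξ v)) (v : V) :
    HopfRep.Comod.coact (k := K) (A := B) (f v) = f.rTensor B (HopfRep.Comod.coact (k := K) (A := B) v) := by
  rw [← sub_eq_zero]
  refine Comod.eq_zero_of_slice _ fun φ => ?_
  rw [map_sub, Comod.slice_rTensor, ← Comod.contract_apply, ← Comod.contract_apply]
  refine (Module.forall_dual_apply_eq_zero_iff K _).mp fun ψ => ?_
  have hz : coef (B := B) ψ (f v) - coef (B := B) (ψ ∘ₗ f) v = 0 := eq_zero_of_stable hU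
    (Set.range fun u => coef (B := B) ψ (f u) - coef (B := B) (ψ ∘ₗ f) u)
    (by rintro _ ⟨u, rfl⟩; rw [map_sub, counit_coef, counit_coef]; simp)
    (by
      rintro _ ⟨u, rfl⟩ ξ hξ
      refine ⟨Comod.contract ξ u, ?_⟩
      simp only [map_sub, slice_comul_coef, h ξ hξ])
    (Set.mem_range_self v)
  rw [map_sub, sub_eq_zero, ← apply_coef, sub_eq_zero.mp hz, apply_coef]
  rfl

end Lie

end Groth.Agent.H85.UnipConn
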