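import Groth.Prelude.Def_HopfRep
import Groth.Agent.Comod.Basic
import Mathlib.LinearAlgebra.Eigenspace.Triangularizable
import Mathlib.RingTheory.HopfAlgebra.GroupLike

/-!
A cocommutative Hopf algebra over an algebraically closed field without primitive elements is spanned
by group-like elements.
-/

set_option autoImplicit false
set_option linter.unusedSectionVars false
open TensorProduct WithConv

namespace Groth.Agent.H85.DiagCrit

universe u v

variable {k : Type u} [Field k]

theorem exists_common_eigenvector [IsAlgClosed k] {V : Type v} [AddCommGroup V] [Module k V]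
    {ι : Type*} (T : ι → V →ₗ[k] V) (hT : ∀ i j, ∀ v, T i (T j v) = T j (T i v))
    (W : Submodule k V) [FiniteDimensional k W] (hW0 : W ≠ ⊥) (hW : ∀ i, ∀ v ∈ W, T i v ∈ W) :
    ∃ v ∈ W, v ≠ 0 ∧ ∀ i, ∃ c : k, T i v = c • v := by
  classical
  let P : ℕ → Prop := fun n => ∃ U : Submodule k V, U ≤ W ∧ U ≠ ⊥ ∧ (∀ i, ∀ v ∈ U, T i v ∈ U) ∧
    Module.finrank k U = n
  have hex : ∃ n, P n := ⟨_, W, le_rfl, hW0, hW, rfl⟩
  obtain ⟨U, hUW, hU0, hUs, hUd⟩ := Nat.find_spec hex
  haveI : FiniteDimensional k U := Submodule.finiteDimensional_of_le hUW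
  obtain ⟨v, hv, hv0⟩ := Submodule.exists_mem_ne_zero_of_ne_bot hU0
  refine ⟨v, hUW hv, hv0, fun i => ?_⟩
  haveI : Nontrivial U := Submodule.nontrivial_iff_ne_bot.mpr hU0
  let Ti : Module.End k U := (T i).restrict (hUs i)
  obtain ⟨c, hc⟩ := Module.End.exists_eigenvalue Ti
  obtain ⟨w, hw⟩ := hc.exists_hasEigenvector
  let U' : Submodule k V := U ⊓ LinearMap.ker (T i - c • LinearMap.id)
  have hwU' : (w : V) ∈ U' := ⟨w.2, by
    rw [SetLike.mem_coe, LinearMap.mem_ker, LinearMap.sub_apply, sub_eq_zero]
    exact congrArg Subtype.val hw.apply_eq_smul⟩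
  have hU'0 : U' ≠ ⊥ := fun h => hw.2 (Subtype.ext (by
    rw [h, Submodule.mem_bot] at hwU'
    simpa using hwU'))
  have hU's : ∀ j, ∀ x ∈ U', T j x ∈ U' := fun j x hx => ⟨hUs j x hx.1, by
    have h2 := hx.2
    rw [SetLike.mem_coe, LinearMap.mem_ker, LinearMap.sub_apply, LinearMap.smul_apply,
      LinearMap.id_apply, sub_eq_zero] at h2 ⊢
    rw [hT, h2, map_smul]⟩
  have hle : Nat.find hex ≤ Module.finrank k U' :=
    Nat.find_min' hex ⟨U', inf_le_left.trans hUW, hU'0, hU's, rfl⟩
  rw [← hUd] at hle
  have heq : U' = U := Submodule.eq_of_le_of_finrank_le inf_le_left hle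
  refine ⟨c, ?_⟩
  have h2 : v ∈ U' := heq.symm ▸ hv
  have h3 := h2.2
  rw [SetLike.mem_coe, LinearMap.mem_ker, LinearMap.sub_apply, sub_eq_zero] at h3
  exact h3

variable {A : Type v} [CommRing A] [HopfAlgebra k A]

/-- the span of the group-like elements is everything -/
theorem span_groupLike_eq_top [IsAlgClosed k] [Coalgebra.IsCocomm k A]
    (h : ∀ f : A, Coalgebra.comul (R := k) f = f ⊗ₜ[k] (1 : A) + (1 : A) ⊗ₜ[k] f → f = 0) :
    Submodule.span k {a : A | IsGroupLikeElem k a} = ⊤ := by
  classical
  set L := Submodule.span k {a : A | IsGroupLikeElem k a}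
  let S : Set A := {a | IsGroupLikeElem k a}
  have hmemL : ∀ g : A, IsGroupLikeElem k g → g ∈ L := fun g hg => Submodule.subset_span hg
  -- contraction operators
  let T : (A →ₗ[k] k) → A →ₗ[k] A := fun φ => Comod.contract φ
  have hTapp : ∀ φ a, T φ a = Comod.slice φ (Coalgebra.comul (R := k) a) := fun φ a => rfl
  have hTL : ∀ φ, ∀ l ∈ L, T φ l ∈ L := by
    intro φ l hl
    induction hl using Submodule.span_induction with
    | zero => simp
    | add x y _ _ hx hy => rw [map_add]; exact add_mem hx hy
    | smul c x _ hx => rw [map_smul]; exact L.smul_mem c hx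
    | mem x hx =>
      rw [hTapp, IsGroupLikeElem.comul_eq_tmul_self hx, Comod.slice_tmul]
      exact L.smul_mem _ (hmemL x hx)
  have hcomm : ∀ (φ ψ : A →ₗ[k] k) (a : A), T φ (T ψ a) = T ψ (T φ a) := by
    intro φ ψ a
    show Comod.contract φ (Comod.contract ψ a) = Comod.contract ψ (Comod.contract φ a)
    rw [Comod.contract_contract, Comod.contract_contract, mul_comm]
  by_contra hne
  obtain ⟨a, ha⟩ : ∃ a, a ∉ L := by
    by_contra hall
    push Not at hall
    exact hne (top_le_iff.mp fun x _ => hall x)
  obtain ⟨U, hUfin, haU, hUsub⟩ := Comod.exists_finite_subcomod (k := k) (A := A) (V := A) {a}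
  -- common eigenvector modulo L
  let Tq : (A →ₗ[k] k) → (A ⧸ L) →ₗ[k] (A ⧸ L) := fun φ => L.mapQ L (T φ) (hTL φ)
  haveI : FiniteDimensional k U := hUfin
  obtain ⟨xq, hxq, hxq0, heig⟩ := exists_common_eigenvector Tq (fun φ ψ v => by
      obtain ⟨v, rfl⟩ := L.mkQ_surjective v
      exact congrArg L.mkQ (hcomm φ ψ v))
    (U.map L.mkQ) (fun h0 => ha (by
      have h1 : L.mkQ a ∈ U.map L.mkQ := Submodule.mem_map_of_mem (haU (by simp))
      rw [h0, Submodule.mem_bot] at h1
      exact (Submodule.Quotient.mk_eq_zero L).mp h1))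
    (fun φ v hv => by
      obtain ⟨v, hv', rfl⟩ := Submodule.mem_map.mp hv
      exact Submodule.mem_map.mpr ⟨T φ v, Comod.contract_mem hUsub φ hv', rfl⟩)
  obtain ⟨x, rfl⟩ := L.mkQ_surjective xq
  have hxL : x ∉ L := fun hx => hxq0 ((Submodule.Quotient.mk_eq_zero L).mpr hx)
  obtain ⟨ℓ₀, hℓ₀x, hℓ₀⟩ := Submodule.exists_dual_map_eq_bot_of_notMem hxL inferInstance
  set ℓ := (ℓ₀ x)⁻¹ • ℓ₀ with hℓdef
  have hℓx : ℓ x = 1 := by simp [hℓdef, inv_mul_cancel₀ hℓ₀x]
  have hℓL : ∀ l ∈ L, ℓ l = 0 := fun l hl => by
    have := Submodule.mem_map_of_mem (f := ℓ₀) hl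
    rw [hℓ₀, Submodule.mem_bot] at this
    simp [hℓdef, this]
  set g : A := TensorProduct.lid k A (ℓ.rTensor A (Coalgebra.comul (R := k) x)) with hg
  have hφg : ∀ φ : A →ₗ[k] k, φ g = ℓ (T φ x) := by
    intro φ
    rw [hg, hTapp]
    generalize Coalgebra.comul (R := k) x = z
    induction z using TensorProduct.induction_on with
    | zero => simp
    | add z w hz hw => simp only [map_add, hz, hw]
    | tmul p q => simp [mul_comm]
  have hTx : ∀ φ, T φ x - φ g • x ∈ L := by
    intro φ
    obtain ⟨c, hc⟩ := heig φ
    have h1 : T φ x - c • x ∈ L := by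
      refine (Submodule.Quotient.eq L).mp ?_
      exact hc
    have h2 := hℓL _ h1
    rw [map_sub, map_smul, hℓx, smul_eq_mul, mul_one, ← hφg, sub_eq_zero] at h2
    rwa [h2]
  -- g is group-like
  have hggl : IsGroupLikeElem k g := by
    have hε : Coalgebra.counit (R := k) g = 1 := by
      rw [hφg]
      show ℓ (Comod.contract (Coalgebra.counit (R := k)) x) = 1
      rw [Comod.contract_counit, hℓx]
    refine ⟨hε, ?_⟩
    rw [← sub_eq_zero]
    refine Comod.eq_zero_of_slice _ fun ψ => ?_
    refine (Module.forall_dual_apply_eq_zero_iff k _).mp fun φ => ?_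
    rw [map_sub, Comod.slice_tmul, map_sub, map_smul, smul_eq_mul, sub_eq_zero]
    have h1 : φ (Comod.slice ψ (Coalgebra.comul (R := k) g)) = (toConv φ * toConv ψ) g := by
      rw [LinearMap.convMul_apply]
      generalize Coalgebra.comul (R := k) g = z
      induction z using TensorProduct.induction_on with
      | zero => simp
      | add z w hz hw => simp only [map_add, hz, hw]
      | tmul p q => simp [mul_comm]
    rw [h1]
    show ((toConv φ * toConv ψ).ofConv) g = _
    rw [hφg]
    show ℓ (Comod.contract (toConv φ * toConv ψ).ofConv x) = _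
    rw [← Comod.contract_contract]
    show ℓ (T φ (T ψ x)) = _
    have h2 := hℓL _ (hTL φ _ (hTx ψ))
    rw [map_sub, map_smul, map_sub, map_smul, ← hφg, smul_eq_mul, sub_eq_zero] at h2
    exact h2
  set z := Coalgebra.comul (R := k) x - x ⊗ₜ[k] g with hz
  obtain ⟨y, hy⟩ := (Comod.mem_range_iff_slice L z).mpr fun φ => by
    rw [hz, map_sub, Comod.slice_tmul]; exact hTx φ
  -- coordinates along group-likes
  have hli : LinearIndependent k (Subtype.val : S → A) := linearIndepOn_isGroupLikeElem
  let bL : Module.Basis S k L := (Module.Basis.span hli).map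
    (LinearEquiv.ofEq _ _ (by rw [Subtype.range_coe_subtype]; rfl))
  have hbL : ∀ s : S, (bL s : A) = (s : A) := fun s => by
    simp [bL, Module.Basis.span_apply]
  let c := TensorProduct.equivFinsuppOfBasisLeft bL y
  have hb : ∀ s : S, c s ∈ L := by
    intro s
    obtain ⟨M, hM⟩ := L.exists_isCompl
    -- δ : coordinate at s, vanishing at x
    let L' := L ⊔ Submodule.span k {x}
    obtain ⟨δ, hδ⟩ : ∃ δ : A →ₗ[k] k, (∀ l : L, δ l = bL.coord s l) ∧ δ x = 0 := by
      let P := Submodule.projectionOnto L M hM
      refine ⟨bL.coord s ∘ₗ P - (bL.coord s (P x)) • ℓ, fun l => ?_, ?_⟩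
      · simp [P, hℓL _ l.2, Submodule.projectionOnto_apply_left hM l]
      · simp [hℓx]
    set b := TensorProduct.lid k A (δ.rTensor A (Coalgebra.comul (R := k) x)) with hb
    have hδy : ∀ y : L ⊗[k] A, TensorProduct.lid k A (δ.rTensor A (L.subtype.rTensor A y)) =
        TensorProduct.equivFinsuppOfBasisLeft bL y s := by
      intro y
      induction y using TensorProduct.induction_on with
      | zero => simp
      | add y w hy hw => simp only [map_add, Finsupp.add_apply, hy, hw]
      | tmul p q => simp [hδ.1 p]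
    have hbc : b = c s := by
      rw [hb, show Coalgebra.comul (R := k) x = z + x ⊗ₜ[k] g by rw [hz]; abel, map_add, map_add,
        ← hy, hδy, LinearMap.rTensor_tmul, hδ.2]
      simp [c]
    -- Δ b = b ⊗ g + s ⊗ b
    have hΔb : Coalgebra.comul (R := k) b = b ⊗ₜ[k] g + (s : A) ⊗ₜ[k] b := by
      let D : A →ₗ[k] A := (TensorProduct.lid k A).toLinearMap ∘ₗ δ.rTensor A ∘ₗ Coalgebra.comul (R := k)
      have hD : ∀ l ∈ L, D l = δ l • (s : A) := by
        intro l hl
        induction hl using Submodule.span_induction with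
        | zero => simp
        | add p q _ _ hp hq => rw [map_add, hp, hq, map_add, add_smul]
        | smul r p _ hp => rw [map_smul, hp, map_smul, smul_smul]; rfl
        | mem p hp =>
          have h1 : δ p = if (⟨p, hp⟩ : S) = s then 1 else 0 := by
            have h2 := hδ.1 (bL ⟨p, hp⟩)
            rw [hbL] at h2
            rw [h2, Module.Basis.coord_apply, bL.repr_self, Finsupp.single_apply]
          simp only [D, LinearMap.comp_apply, IsGroupLikeElem.comul_eq_tmul_self hp,
            LinearMap.rTensor_tmul, LinearEquiv.coe_coe, TensorProduct.lid_tmul, h1]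
          split_ifs with h3
          · rw [← h3]
          · simp
      have hco := Coalgebra.coassoc_apply (R := k) x
      have h1 := congrArg (fun u => TensorProduct.lid k (A ⊗[k] A) (δ.rTensor (A ⊗[k] A) u)) hco
      have hR : ∀ w : A ⊗[k] A, TensorProduct.lid k (A ⊗[k] A) (δ.rTensor (A ⊗[k] A)
          ((Coalgebra.comul (R := k)).lTensor A w)) =
          Coalgebra.comul (R := k) (TensorProduct.lid k A (δ.rTensor A w)) := by
        intro w
        induction w using TensorProduct.induction_on with
        | zero => simp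
        | add p q hp hq => simp only [map_add, hp, hq]
        | tmul p q => simp
      have hLft : ∀ w : A ⊗[k] A, TensorProduct.lid k (A ⊗[k] A) (δ.rTensor (A ⊗[k] A)
          (TensorProduct.assoc k A A A ((Coalgebra.comul (R := k)).rTensor A w))) = D.rTensor A w := by
        intro w
        induction w using TensorProduct.induction_on with
        | zero => simp
        | add p q hp hq => simp only [map_add, hp, hq]
        | tmul p q =>
          simp only [LinearMap.rTensor_tmul, D, LinearMap.comp_apply]
          generalize Coalgebra.comul (R := k) p = v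
          induction v using TensorProduct.induction_on with
          | zero => simp
          | add v v' hv hv' => simp only [map_add, add_tmul, hv, hv']
          | tmul p₁ p₂ => simp [smul_tmul']
      simp only [hR, hLft] at h1
      rw [← hb] at h1
      rw [← h1]
      conv_lhs => rw [show Coalgebra.comul (R := k) x = z + x ⊗ₜ[k] g by rw [hz]; abel]
      rw [map_add, LinearMap.rTensor_tmul, add_comm]
      refine congrArg₂ (· + ·) ?_ ?_
      · rw [hb]; rfl
      · rw [hbc]
        have hy' : ∀ y : L ⊗[k] A, D.rTensor A (L.subtype.rTensor A y) =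
            (s : A) ⊗ₜ[k] TensorProduct.equivFinsuppOfBasisLeft bL y s := by
          intro y
          induction y using TensorProduct.induction_on with
          | zero => simp
          | add y w hy hw => simp only [map_add, Finsupp.add_apply, hy, hw, tmul_add]
          | tmul p q =>
            rw [LinearMap.rTensor_tmul, LinearMap.rTensor_tmul, Submodule.subtype_apply, hD _ p.2, hδ.1]
            simp [smul_tmul]
        rw [← hy, hy']
    rw [← hbc]
    have hs : IsGroupLikeElem k (s : A) := s.2
    by_cases hsg : (s : A) = g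
    · have hinv := hggl.antipode
      have h1 : Coalgebra.comul (R := k) (HopfAlgebra.antipode k g * b) =
          (HopfAlgebra.antipode k g * b) ⊗ₜ 1 + 1 ⊗ₜ (HopfAlgebra.antipode k g * b) := by
        rw [Bialgebra.comul_mul, IsGroupLikeElem.comul_eq_tmul_self hinv, hΔb, hsg, mul_add,
          Algebra.TensorProduct.tmul_mul_tmul, Algebra.TensorProduct.tmul_mul_tmul,
          hggl.antipode_mul_cancel]
      have h2 := h _ h1
      have h3 : b = g * (HopfAlgebra.antipode k g * b) := by
        rw [← mul_assoc, mul_comm g, hggl.antipode_mul_cancel, one_mul]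
      rw [h3, h2, mul_zero]
      exact zero_mem L
    · have hd : (s : A) - g ≠ 0 := sub_ne_zero.mpr hsg
      obtain ⟨μ, hμ⟩ : ∃ μ : A →ₗ[k] k, μ ((s : A) - g) = 1 := by
        obtain ⟨μ, hμ⟩ : ∃ μ : A →ₗ[k] k, μ ((s : A) - g) ≠ 0 := by
          by_contra hall
          push Not at hall
          exact hd ((Module.forall_dual_apply_eq_zero_iff k _).mp hall)
        exact ⟨(μ ((s : A) - g))⁻¹ • μ, by simp [inv_mul_cancel₀ hμ, -map_sub]⟩
      have h1 := Coalgebra.comm_comul k b
      rw [hΔb, map_add, TensorProduct.comm_tmul, TensorProduct.comm_tmul] at h1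
      have h2 := congrArg (fun u => TensorProduct.lid k A (μ.rTensor A u)) h1
      simp only [map_add, LinearMap.rTensor_tmul, TensorProduct.lid_tmul] at h2
      rw [map_sub] at hμ
      have h3 : b = μ b • ((s : A) - g) := by
        calc b = (μ (s : A) - μ g) • b := by rw [hμ, one_smul]
          _ = μ b • ((s : A) - g) := by
            rw [sub_smul, smul_sub]
            linear_combination (norm := abel) -h2
      rw [h3]
      exact L.smul_mem _ (sub_mem (hmemL _ hs) (hmemL _ hggl))
  -- conclusion
  have hη : ∀ y : L ⊗[k] A, TensorProduct.lid k A ((Coalgebra.counit (R := k)).rTensor A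
      (L.subtype.rTensor A y)) = (TensorProduct.equivFinsuppOfBasisLeft bL y).sum fun _ q => q := by
    intro y
    induction y using TensorProduct.induction_on with
    | zero => simp
    | add y w hy hw => simp only [map_add, hy, hw]; rw [Finsupp.sum_add_index'] <;> simp
    | tmul p q =>
      have hp : Coalgebra.counit (R := k) (p : A) = (bL.repr p).sum fun _ r => r := by
        have h3 := congrArg (fun t : L => Coalgebra.counit (R := k) (t : A)) (bL.linearCombination_repr p)
        simp only [Finsupp.linearCombination_apply, Finsupp.sum, AddSubmonoidClass.coe_finsetSum,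
          Submodule.coe_smul, map_sum, map_smul, hbL, smul_eq_mul] at h3
        rw [← h3, Finsupp.sum]
        refine Finset.sum_congr rfl fun t _ => ?_
        rw [IsGroupLikeElem.counit_eq_one t.2, mul_one]
      simp only [LinearMap.rTensor_tmul, Submodule.subtype_apply, TensorProduct.lid_tmul, hp,
        TensorProduct.equivFinsuppOfBasisLeft_apply_tmul]
      rw [Finsupp.sum_mapRange_index (by simp), Finsupp.sum, Finsupp.sum, Finset.sum_smul]
  apply hxL
  have h1 : x = Coalgebra.counit (R := k) x • g + (c.sum fun _ q => q) := by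
    have h2 := congrArg (fun u => TensorProduct.lid k A ((Coalgebra.counit (R := k)).rTensor A u))
      (show Coalgebra.comul (R := k) x = x ⊗ₜ[k] g + z by rw [hz]; abel)
    simp only [Coalgebra.rTensor_counit_comul, map_add, LinearMap.rTensor_tmul,
      TensorProduct.lid_tmul, one_smul] at h2
    rw [← hy, hη] at h2
    exact h2
  rw [h1]
  exact add_mem (L.smul_mem _ (hmemL g hggl)) (sum_mem fun s _ => hb s)

end Groth.Agent.H85.DiagCrit
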