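import Groth.Prelude.Def_Dyn
import Mathlib

set_option autoImplicit false
universe u
open scoped TensorProduct
open WithConv

namespace Groth.Agent.H85

/-- `conv3` is the triple convolution product of the underlying linear maps. -/
theorem conv3_toLinearMap (k : Type u) [CommRing k] (A : Type u) [CommRing A] [HopfAlgebra k A]
    {C : Type u} [CommRing C] [Algebra k C] (f g h : A →ₐ[k] C) :
    toConv (Dyn.conv3 k A f g h).toLinearMap =
      toConv f.toLinearMap * toConv g.toLinearMap * toConv h.toLinearMap := by
  refine WithConv.ext (LinearMap.ext fun a => ?_)
  simp only [LinearMap.convMul_def, WithConv.ofConv_toConv, LinearMap.comp_apply, Dyn.conv3,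
    AlgHom.toLinearMap_apply, AlgHom.comp_apply]
  change _ = LinearMap.mul' k C (TensorProduct.map _ _ (CoalgebraStruct.comul (R := k) a))
  simp only [Bialgebra.comulAlgHom_apply]
  generalize CoalgebraStruct.comul (R := k) a = z
  induction z with
  | zero => simp
  | add x y hx hy => simp only [map_add, hx, hy]
  | tmul x y =>
    simp only [Algebra.TensorProduct.map_tmul, AlgHom.id_apply, Bialgebra.comulAlgHom_apply,
      TensorProduct.map_tmul, LinearMap.comp_apply]
    generalize CoalgebraStruct.comul (R := k) x = w
    induction w with
    | zero => simp
    | add p q hp hq =>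
      simp only [map_add, TensorProduct.add_tmul] at *
      rw [hp, hq]
    | tmul p q => simp

end Groth.Agent.H85
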