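import Groth.Prelude.Def_CohTop
import Mathlib.Topology.Sheaves.Functors
import Mathlib.Topology.Sheaves.Stalks
import Mathlib.Topology.Sheaves.SheafCondition.UniqueGluing
import Mathlib.CategoryTheory.Adjunction.FullyFaithful
import Mathlib.CategoryTheory.EssentialImage

/-!
# Direct image of abelian sheaves along inducing maps with closed range
-/

universe u

open CategoryTheory CategoryTheory.Limits TopologicalSpace Opposite Topology

namespace Groth.Agent.H85

variable {Z X : TopCat.{u}} {i : Z ⟶ X}

/-- `i_*` is fully faithful for an inducing map `i`. -/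
noncomputable def pushFullyFaithful (hi : IsInducing i) :
    (CohTop.push i).FullyFaithful where
  preimage {F G} ψ :=
    { hom :=
        { app := fun O => F.obj.map (eqToHom (hi.map_functorObj O.unop)).op ≫
            ψ.hom.app (op (hi.functorObj O.unop)) ≫
              G.obj.map (eqToHom (hi.map_functorObj O.unop).symm).op
          naturality := by
            intro O O' h
            have hle : hi.functorObj O'.unop ≤ hi.functorObj O.unop :=
              hi.le_functorObj_iff.2 ((hi.map_functorObj _).trans_le (leOfHom h.unop))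
            have hn := ψ.hom.naturality (homOfLE hle).op
            dsimp [CohTop.push, TopCat.Sheaf.pushforward, Functor.sheafPushforwardContinuous] at hn ⊢
            simp only [← Functor.map_comp_assoc, Category.assoc]
            rw [show h ≫ (eqToHom (hi.map_functorObj O'.unop)).op =
              (eqToHom (hi.map_functorObj O.unop)).op ≫ ((Opens.map i).map (homOfLE hle)).op from
                Quiver.Hom.unop_inj (Subsingleton.elim _ _), Functor.map_comp, Category.assoc,
              ]
            erw [reassoc_of% hn]
            rw [← G.obj.map_comp, ← G.obj.map_comp]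
            rfl
          } }
  map_preimage {F G} ψ := by
    apply ObjectProperty.hom_ext
    ext O : 2
    obtain ⟨W⟩ := O
    have hle : W ≤ hi.functorObj ((Opens.map i).obj W) := hi.le_functorObj_iff.2 le_rfl
    have hn := ψ.hom.naturality (homOfLE hle).op
    dsimp [CohTop.push, TopCat.Sheaf.pushforward, Functor.sheafPushforwardContinuous] at hn ⊢
    rw [show (eqToHom (hi.map_functorObj ((Opens.map i).obj W)).symm).op =
      ((Opens.map i).map (homOfLE hle)).op from Quiver.Hom.unop_inj (Subsingleton.elim _ _)]
    erw [← hn]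
    rw [← Functor.map_comp_assoc]
    refine (congrArg (fun t => F.obj.map t ≫ ψ.hom.app (op W))
      (Quiver.Hom.unop_inj (Subsingleton.elim _ (𝟙 (op ((Opens.map i).obj W)).unop)))).trans ?_
    erw [F.obj.map_id, Category.id_comp]
  preimage_map {F G} φ := by
    apply ObjectProperty.hom_ext
    ext O : 2
    dsimp [CohTop.push, TopCat.Sheaf.pushforward, Functor.sheafPushforwardContinuous]
    rw [φ.hom.naturality_assoc]
    simp

/-- Sections of `i_* F` over an open missing the image vanish. -/
theorem subsingleton_push_sections (F : CohTop.Ab Z) (W : Opens X) (hW : ∀ z, i z ∉ W) :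
    Subsingleton (((CohTop.push i).obj F).obj.obj (op W)) := by
  have he : (Opens.map i).obj W = ⊥ := by
    ext z
    exact ⟨fun hz => absurd hz (hW z), fun hz => hz.elim⟩
  exact AddCommGrpCat.subsingleton_of_isZero
    (TopCat.Sheaf.isTerminalOfEqEmpty (F := F) he).isZero

/-- A sheaf without sections outside of a closed image comes from `Z`. -/
theorem mem_essImage_push (hi : IsInducing i) (hc : IsClosed (Set.range i))
    (G : TopCat.Sheaf AddCommGrpCat.{u} X)
    (hsub : ∀ W : Opens X, (∀ z, i z ∉ W) → Subsingleton (G.obj.obj (op W))) :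
    (CohTop.push i).essImage G := by
  let V : Opens X := ⟨(Set.range i)ᶜ, hc.isOpen_compl⟩
  have hsub' : ∀ W : Opens X, W ≤ V → Subsingleton (G.obj.obj (op W)) := fun W hW =>
    hsub W fun z hz => hW hz ⟨z, rfl⟩
  let g : Opens Z ⥤ Opens X := hi.functor
  have hmem : ∀ {O : Opens Z} {z : Z}, i z ∈ g.obj O ↔ z ∈ O := fun {O _} => hi.mem_functorObj_iff O
  have hV : ∀ O : Opens Z, V ≤ g.obj O := fun O =>
    hi.le_functorObj_iff.2 fun z hz => absurd ⟨z, rfl⟩ (show i z ∈ V from hz)
  have hsheaf : TopCat.Presheaf.IsSheaf (g.op ⋙ G.obj : Z.Presheaf AddCommGrpCat.{u}) := by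
    rw [TopCat.Presheaf.isSheaf_iff_isSheafUniqueGluing]
    intro ι U sf hsf
    let U' : Option ι → Opens X := fun o => o.elim V fun j => g.obj (U j)
    let sf' : ∀ o, G.presheaf.obj (op (U' o)) := fun o => match o with
      | none => 0
      | some j => sf j
    have hle : ∀ o, U' o ≤ g.obj (iSup U) := fun o => match o with
      | none => hV _
      | some j => leOfHom (g.map (homOfLE (le_iSup U j)))
    have hcov : g.obj (iSup U) ≤ iSup U' := by
      intro x hx
      by_cases hr : x ∈ Set.range i
      · obtain ⟨z, rfl⟩ := hr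
        obtain ⟨j, hj⟩ := Opens.mem_iSup.1 (hmem.1 hx)
        exact Opens.mem_iSup.2 ⟨some j, hmem.2 hj⟩
      · exact Opens.mem_iSup.2 ⟨none, hr⟩
    have hcomp : TopCat.Presheaf.IsCompatible G.obj U' sf' := by
      rintro (_ | a) (_ | b)
      · exact (hsub' _ inf_le_left).elim _ _
      · exact (hsub' _ inf_le_left).elim _ _
      · exact (hsub' _ inf_le_right).elim _ _
      · have h0 := hsf a b
        have e : g.obj (U a) ⊓ g.obj (U b) ≤ g.obj (U a ⊓ U b) :=
          hi.le_functorObj_iff.2 fun z hz => ⟨hmem.1 hz.1, hmem.1 hz.2⟩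
        have h1 := congrArg (G.obj.map (homOfLE e).op) h0
        dsimp at h1
        rw [← Functor.map_comp_apply, ← Functor.map_comp_apply] at h1
        exact h1
    obtain ⟨s, hs, hu⟩ := G.existsUnique_gluing' U' (g.obj (iSup U)) (fun o => homOfLE (hle o))
      hcov sf' hcomp
    refine ⟨s, fun j => hs (some j), fun t ht => hu t fun o => ?_⟩
    cases o with
    | none => exact (hsub' _ le_rfl).elim _ _
    | some j => exact ht j
  let H : CohTop.Ab Z := ⟨g.op ⋙ G.obj, hsheaf⟩
  let φ : (CohTop.push i).obj H ⟶ G :=
    { hom :=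
        { app := fun W => G.obj.map (homOfLE (hi.le_functorObj_iff.2 le_rfl)).op
          naturality := fun W W' f => by
            dsimp [CohTop.push, TopCat.Sheaf.pushforward, Functor.sheafPushforwardContinuous, H]
            exact (G.obj.map_comp _ _).symm.trans
              ((congrArg G.obj.map (Subsingleton.elim _ _)).trans (G.obj.map_comp _ _)) } }
  haveI : ∀ W, IsIso (φ.hom.app W) := by
    rintro ⟨W⟩
    rw [ConcreteCategory.isIso_iff_bijective]
    let U' : Option PUnit.{u + 1} → Opens X := fun o => o.elim V fun _ => W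
    have hle : ∀ o, U' o ≤ g.obj ((Opens.map i).obj W) := fun o => match o with
      | none => hV _
      | some _ => hi.le_functorObj_iff.2 le_rfl
    have hcov : g.obj ((Opens.map i).obj W) ≤ iSup U' := by
      intro x hx
      by_cases hr : x ∈ Set.range i
      · obtain ⟨z, rfl⟩ := hr
        exact Opens.mem_iSup.2 ⟨some PUnit.unit, hmem.1 hx⟩
      · exact Opens.mem_iSup.2 ⟨none, hr⟩
    constructor
    · intro a b hab
      apply G.eq_of_locally_eq' U' _ (fun o => homOfLE (hle o)) hcov
      rintro (_ | _)
      · exact (hsub' _ le_rfl).elim _ _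
      · exact hab
    · intro t
      let sf' : ∀ o, G.presheaf.obj (op (U' o)) := fun o => match o with
        | none => 0
        | some _ => t
      have hcomp : TopCat.Presheaf.IsCompatible G.obj U' sf' := by
        rintro (_ | a) (_ | b)
        · exact (hsub' _ inf_le_left).elim _ _
        · exact (hsub' _ inf_le_left).elim _ _
        · exact (hsub' _ inf_le_right).elim _ _
        · rfl
      obtain ⟨s, hs, -⟩ := G.existsUnique_gluing' U' _ (fun o => homOfLE (hle o)) hcov sf' hcomp
      exact ⟨s, hs (some PUnit.unit)⟩
  haveI : IsIso φ.hom := NatIso.isIso_of_isIso_app _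
  haveI : IsIso φ := by
    haveI : IsIso ((TopCat.Sheaf.forget AddCommGrpCat.{u} X).map φ) := inferInstanceAs (IsIso φ.hom)
    exact isIso_of_fully_faithful (TopCat.Sheaf.forget AddCommGrpCat.{u} X) φ
  exact ⟨H, ⟨asIso φ⟩⟩

end Groth.Agent.H85
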