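import Mathlib
import Groth.Agent.LocFlat.Fibre

/-!
# Flat and unramified at a prime implies étale at it; descent of étaleness at a prime
-/

set_option autoImplicit false

universe u

noncomputable section

namespace Groth.Agent.H85.EtaleCriterion

open IsLocalRing
open scoped TensorProduct

/-- Flat and unramified at a prime: étale at it. -/
theorem isEtaleAt_of_flat_of_unramified {R S : Type u} [CommRing R] [CommRing S] [Algebra R S]
    [Algebra.FinitePresentation R S] (q : Ideal S) [q.IsPrime] [Algebra.IsUnramifiedAt R q]
    [Module.Flat R (Localization.AtPrime q)] : Algebra.IsEtaleAt R q := by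
  classical
  let p := q.under R
  let Rp := Localization.AtPrime p
  let Sp := Localization (Algebra.algebraMapSubmonoid S p.primeCompl)
  let Sq := Localization.AtPrime q
  let := Localization.AtPrime.algebraOfLiesOver p q
  let f : Sp →ₐ[S] Sq := IsLocalization.liftAlgHom (M := Algebra.algebraMapSubmonoid S p.primeCompl)
        (f := Algebra.ofId _ _) (by
      rintro ⟨_, x, hx, rfl⟩
      simpa using! IsLocalization.map_units (M := q.primeCompl) Sq ⟨algebraMap _ _ x,
        by simp_all [q.over_def p]⟩)
  algebraize [f.toRingHom]
  have : IsScalarTower R Sp Sq := .to₁₃₄ _ S _ _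
  have : IsScalarTower Rp Sp Sq := .of_algebraMap_eq' <| by
    apply IsLocalization.ringHom_ext p.primeCompl
    simp only [RingHom.comp_assoc, ← IsScalarTower.algebraMap_eq]
  have : IsLocalization (Algebra.algebraMapSubmonoid Sp q.primeCompl) Sq :=
    .isLocalization_of_submonoid_le _ _ (Algebra.algebraMapSubmonoid S p.primeCompl) _
    (by rintro _ ⟨x, hx, rfl⟩; simp_all [q.over_def p])
  have : Algebra.FinitePresentation Rp Sp := by
    have : Algebra.IsPushout R Rp S Sp :=
      .symm <| Algebra.isPushout_of_isLocalization p.primeCompl _ _ _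
    exact .equiv (Algebra.IsPushout.equiv R Rp S Sp)
  have : Module.Flat Rp Sq := (Module.flat_iff_of_isLocalization Rp p.primeCompl Sq).mpr ‹_›
  have : Algebra.FormallyUnramified Rp Sq := .of_restrictScalars R _ _
  have : Algebra.EssFiniteType Rp Sq := Algebra.EssFiniteType.of_comp R _ _
  have : Algebra.FormallyUnramified (ResidueField Rp) (ResidueField Rp ⊗[Rp] Sq) := inferInstance
  have : Algebra.EssFiniteType (ResidueField Rp) (ResidueField Rp ⊗[Rp] Sq) := inferInstance
  have : Algebra.FormallyEtale (ResidueField Rp) (ResidueField Rp ⊗[Rp] Sq) :=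
    Algebra.FormallyEtale.of_formallyUnramified_of_field _ _
  have := Algebra.FormallySmooth.of_formallySmooth_residueField_tensor
    (R := Rp) (S := Sq) (P := Sp) (Algebra.algebraMapSubmonoid _ q.primeCompl)
  have : Algebra.FormallySmooth R Sq := .comp R Rp Sq
  exact Algebra.FormallyEtale.iff_formallyUnramified_and_formallySmooth.mpr ⟨inferInstance, inferInstance⟩

/-- If `R → S → T` with `S → T` étale at `P` and `R → T` étale at `P`, then `R → S` is étale at the prime below. -/
theorem isEtaleAt_of_comp {R S T : Type u} [CommRing R] [CommRing S] [CommRing T] [Algebra R S] [Algebra S T]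
    [Algebra R T] [IsScalarTower R S T] [Algebra.FinitePresentation R S] [Algebra.FinitePresentation R T]
    [Algebra.FinitePresentation S T] (q : Ideal S) [q.IsPrime] (P : Ideal T) [P.IsPrime] [P.LiesOver q]
    [Algebra.IsEtaleAt R P] [Algebra.IsEtaleAt S P] : Algebra.IsEtaleAt R q := by
  classical
  let Sq := Localization.AtPrime q
  let TP := Localization.AtPrime P
  letI := Localization.AtPrime.algebraOfLiesOver q P
  haveI : IsScalarTower R Sq TP := .to₁₃₄ _ S _ _
  haveI : Algebra.FormallyEtale Sq TP := .localization_base q.primeCompl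
  haveI hflatS : Module.Flat S TP := by
    obtain ⟨f, hf, hEt⟩ := Algebra.exists_etale_of_isEtaleAt (R := S) P
    haveI := IsLocalization.Away.algebraMap_isUnit (S := Localization.Away f) f
    let j : Localization.Away f →ₐ[T] TP := IsLocalization.liftAlgHom (M := Submonoid.powers f) (f := Algebra.ofId T TP)
      (by rintro ⟨_, n, rfl⟩; simpa using (IsLocalization.map_units TP (⟨f, hf⟩ : P.primeCompl)).pow n)
    letI := j.toRingHom.toAlgebra
    haveI : IsScalarTower T (Localization.Away f) TP := .of_algebraMap_eq fun x => (j.commutes x).symm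
    haveI : IsScalarTower S (Localization.Away f) TP := .to₁₃₄ S T _ _
    haveI : IsLocalization (Algebra.algebraMapSubmonoid (Localization.Away f) P.primeCompl) TP :=
      IsLocalization.isLocalization_of_submonoid_le (Localization.Away f) TP (Submonoid.powers f) P.primeCompl
        (Submonoid.powers_le.mpr hf)
    haveI := IsLocalization.flat TP (Algebra.algebraMapSubmonoid (Localization.Away f) P.primeCompl)
    exact Module.Flat.trans S (Localization.Away f) TP
  haveI hflatR : Module.Flat R TP := by
    obtain ⟨f, hf, hEt⟩ := Algebra.exists_etale_of_isEtaleAt (R := R) P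
    let j : Localization.Away f →ₐ[T] TP := IsLocalization.liftAlgHom (M := Submonoid.powers f) (f := Algebra.ofId T TP)
      (by rintro ⟨_, n, rfl⟩; simpa using (IsLocalization.map_units TP (⟨f, hf⟩ : P.primeCompl)).pow n)
    letI := j.toRingHom.toAlgebra
    haveI : IsScalarTower T (Localization.Away f) TP := .of_algebraMap_eq fun x => (j.commutes x).symm
    haveI : IsScalarTower R (Localization.Away f) TP := .to₁₃₄ R T _ _
    haveI : IsLocalization (Algebra.algebraMapSubmonoid (Localization.Away f) P.primeCompl) TP :=
      IsLocalization.isLocalization_of_submonoid_le (Localization.Away f) TP (Submonoid.powers f) P.primeCompl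
        (Submonoid.powers_le.mpr hf)
    haveI := IsLocalization.flat TP (Algebra.algebraMapSubmonoid (Localization.Away f) P.primeCompl)
    exact Module.Flat.trans R (Localization.Away f) TP
  haveI : Module.Flat Sq TP := (Module.flat_iff_of_isLocalization Sq q.primeCompl TP).mpr hflatS
  haveI : Module.FaithfullyFlat Sq TP := Module.FaithfullyFlat.of_flat_of_isLocalHom
  haveI : Module.Flat R Sq := LocFlat.flat_of_faithfullyFlat_tower (R := R) (S := Sq) TP
  haveI : Algebra.IsUnramifiedAt R q := by
    refine ⟨?_⟩
    have e := KaehlerDifferential.tensorKaehlerEquivOfFormallyEtale R Sq TP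
    haveI : Subsingleton (TP ⊗[Sq] Ω[Sq⁄R]) := e.subsingleton
    exact Module.FaithfullyFlat.lTensor_reflects_triviality Sq TP Ω[Sq⁄R]
  exact isEtaleAt_of_flat_of_unramified q

end Groth.Agent.H85.EtaleCriterion
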