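import Groth.Agent.H85.HMEngine
import Groth.Agent.H85.LimitStable
import Groth.Agent.GITLib.LinearInv
import Groth.Agent.GITLib.Mu
import Groth.Agent.S16480

/-!
# The Hilbert-Mumford criterion for linear actions
-/

set_option autoImplicit false

universe u

noncomputable section

open TensorProduct CoordGrp LaurentPolynomial

namespace Groth.Agent.H85.HMLinear

open InvQLib HMGroup HMCurve

variable {k : Type u} [Field k] {A : Type u} [CommRing A] [HopfAlgebra k A]
  {ι : Type u} [Fintype ι] [HopfRep.Comod k A (MvPolynomial ι k)] [GLin.IsCoactAlg k A (MvPolynomial ι k)]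

theorem orbitHom_X {m : ι → ι → A}
    (hm : ∀ i, HopfRep.Comod.coact (k := k) (A := A) (MvPolynomial.X i : MvPolynomial ι k) =
      ∑ j, (MvPolynomial.X j : MvPolynomial ι k) ⊗ₜ[k] m i j) (v : ι → k) (i : ι) :
    GLin.orbitHom k A (GLin.vecPt k ι v) (MvPolynomial.X i) = ∑ j, v j • m i j := by
  simp only [GLin.orbitHom, AlgHom.comp_apply, GLin.coactAlgHom_apply, hm, map_sum]
  simp

theorem isMat_of_linear [DecidableEq ι] {m : ι → ι → A}
    (hm : ∀ i, HopfRep.Comod.coact (k := k) (A := A) (MvPolynomial.X i : MvPolynomial ι k) =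
      ∑ j, (MvPolynomial.X j : MvPolynomial ι k) ⊗ₜ[k] m i j) : Comod.IsMat k (fun l i => m i l) := by
  classical
  constructor
  · intro l i
    have h1 := LinearMap.congr_fun (HopfRep.Comod.coassoc (k := k) (A := A) (V := MvPolynomial ι k)) (MvPolynomial.X i)
    simp only [LinearMap.comp_apply, LinearEquiv.coe_coe, hm, map_sum, LinearMap.rTensor_tmul, LinearMap.lTensor_tmul,
      TensorProduct.sum_tmul, TensorProduct.assoc_tmul] at h1
    have h2 := congrArg (fun z => TensorProduct.lid k (A ⊗[k] A)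
      ((GLin.vecPt k ι (Pi.single l 1)).toLinearMap.rTensor (A ⊗[k] A) z)) h1
    simp only [map_sum, LinearMap.rTensor_tmul, AlgHom.toLinearMap_apply, MvPolynomial.aeval_X, TensorProduct.lid_tmul,
      Pi.single_apply, ite_smul, one_smul, zero_smul, Finset.sum_ite_eq', Finset.mem_univ, if_true] at h2
    exact h2.symm
  · intro l i
    have h1 := LinearMap.congr_fun (HopfRep.Comod.counit_comp (k := k) (A := A) (V := MvPolynomial ι k)) (MvPolynomial.X i)
    simp only [LinearMap.comp_apply, hm, map_sum, LinearMap.lTensor_tmul] at h1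
    have h2 := congrArg (fun z => TensorProduct.rid k k
      ((GLin.vecPt k ι (Pi.single l 1)).toLinearMap.rTensor k z)) h1
    simpa [Pi.single_apply, eq_comm] using h2

/-- a linear action comes from an embedding into a general linear group acting on row vectors -/
theorem exists_embedding [Algebra.FiniteType k A] (hlin : GLin.IsLinear k A ι) :
    ∃ (N : ℕ) (π : GLn N k →ₐc[k] A) (e : ι → Fin N), Function.Surjective π ∧
      ∀ (v : ι → k), ∃ v' : Fin N → k, (∀ j, j ∉ Set.range e → ∑ l, v' l • π (GLn.X l j) = 0) ∧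
        ∀ i, ∑ l, v' l • π (GLn.X l (e i)) = GLin.orbitHom k A (GLin.vecPt k ι v) (MvPolynomial.X i) := by
  classical
  choose m hm using hlin
  obtain ⟨n, π₁, hπ₁⟩ := S16480.result k A
  let d := Fintype.card ι
  let e₁ := Fintype.equivFin ι
  let e₀ : Fin n ⊕ Fin d ≃ Fin (n + d) := finSumFinEquiv
  let B : Matrix (Fin n ⊕ Fin d) (Fin n ⊕ Fin d) A :=
    Matrix.fromBlocks (Matrix.of fun i j => π₁ (GLn.X i j)) 0 0 (Matrix.of fun l i => m (e₁.symm i) (e₁.symm l))
  let M : Matrix (Fin (n + d)) (Fin (n + d)) A := Matrix.reindex e₀ e₀ B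
  have hM : Comod.IsMat k (fun i j => M i j) := by
    have ha := isMat_of_linear hm
    refine ⟨fun i j => ?_, fun i j => ?_⟩
    · obtain ⟨i, rfl⟩ := e₀.surjective i
      obtain ⟨j, rfl⟩ := e₀.surjective j
      rw [← e₀.sum_comp]
      simp only [M, Matrix.reindex_apply, Matrix.submatrix_apply, Equiv.symm_apply_apply, Fintype.sum_sum_type]
      rcases i with i | i <;> rcases j with j | j <;>
        simp only [B, Matrix.fromBlocks_apply₁₁, Matrix.fromBlocks_apply₁₂, Matrix.fromBlocks_apply₂₁,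
          Matrix.fromBlocks_apply₂₂, Matrix.of_apply, Matrix.zero_apply, map_zero, TensorProduct.zero_tmul, TensorProduct.tmul_zero,
          Finset.sum_const_zero, add_zero, zero_add]
      · rw [← CoalgHomClass.map_comp_comul_apply π₁]
        rw [GLn.comul_X, map_sum]
        simp
      · rw [ha.comul (e₁.symm i) (e₁.symm j), ← e₁.symm.sum_comp]
    · obtain ⟨i, rfl⟩ := e₀.surjective i
      obtain ⟨j, rfl⟩ := e₀.surjective j
      simp only [M, Matrix.reindex_apply, Matrix.submatrix_apply, Equiv.symm_apply_apply, EmbeddingLike.apply_eq_iff_eq]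
      rcases i with i | i <;> rcases j with j | j <;>
        simp only [B, Matrix.fromBlocks_apply₁₁, Matrix.fromBlocks_apply₁₂, Matrix.fromBlocks_apply₂₁,
          Matrix.fromBlocks_apply₂₂, Matrix.of_apply, Matrix.zero_apply, map_zero, reduceCtorEq, if_false, Sum.inl.injEq, Sum.inr.injEq]
      · rw [CoalgHomClass.counit_comp_apply π₁, GLn.counit_X]
      · rw [ha.counit (e₁.symm i) (e₁.symm j)]
        simp
  obtain ⟨π, hπ⟩ := S16480.exists_hom M hM
  have hπB : ∀ i j, π (GLn.X (e₀ i) (e₀ j)) = B i j := fun i j => by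
    rw [hπ]; simp [M]
  refine ⟨n + d, π, fun i => e₀ (Sum.inr (e₁ i)), ?_, fun v => ?_⟩
  · intro a
    obtain ⟨y, rfl⟩ := hπ₁ a
    let X₁ : Matrix (Fin n) (Fin n) (GLn (n + d) k) := fun i j => GLn.X (e₀ (Sum.inl i)) (e₀ (Sum.inl j))
    let X₂ : Matrix (Fin d) (Fin d) (GLn (n + d) k) := fun i j => GLn.X (e₀ (Sum.inr i)) (e₀ (Sum.inr j))
    let R := (π : GLn (n + d) k →ₐ[k] A).range
    have hX : ∀ i j, π₁ (GLn.X i j) = π (X₁ i j) := fun i j => (hπB (Sum.inl i) (Sum.inl j)).symm
    have hdet : π₁ GLn.det = π X₁.det := by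
      change (π₁ : GLn n k →ₐ[k] A) GLn.det = (π : GLn (n + d) k →ₐ[k] A) X₁.det
      rw [GLn.det_eq, AlgHom.map_det, AlgHom.map_det]
      exact congrArg Matrix.det (Matrix.ext fun i j => hX i j)
    have hdetN : π GLn.det = π X₁.det * π X₂.det := by
      have h1 : (π : GLn (n + d) k →ₐ[k] A) GLn.det = M.det := by
        rw [GLn.det_eq, AlgHom.map_det]
        exact congrArg Matrix.det (Matrix.ext fun i j => hπ i j)
      refine h1.trans ?_
      simp only [M, B, Matrix.det_reindex_self, Matrix.det_fromBlocks_zero₂₁]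
      change _ = (π : GLn (n + d) k →ₐ[k] A) X₁.det * (π : GLn (n + d) k →ₐ[k] A) X₂.det
      rw [AlgHom.map_det, AlgHom.map_det]
      refine congrArg₂ (· * ·) ?_ ?_ <;> refine congrArg Matrix.det (Matrix.ext fun i j => ?_)
      · exact (hπB (Sum.inl i) (Sum.inl j)).symm
      · exact (hπB (Sum.inr i) (Sum.inr j)).symm
    have hDinv : π₁ GLn.Dinv = π (GLn.Dinv * X₂.det) := by
      have h1 : π₁ GLn.det * π₁ GLn.Dinv = 1 := by rw [← map_mul, GLn.det_mul_Dinv, map_one]
      have h2 : π₁ GLn.det * π (GLn.Dinv * X₂.det) = 1 := by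
        rw [hdet, map_mul, mul_left_comm, ← hdetN, mul_comm, ← map_mul, GLn.det_mul_Dinv, map_one]
      exact left_inv_eq_right_inv (by rwa [mul_comm] at h1) h2
    obtain ⟨P, rfl⟩ : ∃ P, GLn.mk n k P = y := Ideal.Quotient.mk_surjective y
    let f : GLb n k →ₐ[k] GLn (n + d) k := GLb.aeval n k X₁ (GLn.Dinv * X₂.det)
    refine ⟨f P, ?_⟩
    have : (π : GLn (n + d) k →ₐ[k] A).comp f = (π₁ : GLn n k →ₐ[k] A).comp (GLn.mk n k) := by
      refine GLb.algHom_ext (fun i j => ?_) ?_
      · rw [AlgHom.comp_apply, GLb.aeval_X]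
        exact (hX i j).symm
      · rw [AlgHom.comp_apply, GLb.aeval_D]
        exact hDinv.symm
    exact AlgHom.congr_fun this P
  · refine ⟨fun j => Sum.elim 0 (v ∘ e₁.symm) (e₀.symm j), fun j hj => ?_, fun i => ?_⟩
    · rw [← e₀.sum_comp]
      obtain ⟨j, rfl⟩ := e₀.surjective j
      rcases j with j | j
      · simp [Fintype.sum_sum_type, hπB, B]
      · exact absurd ⟨e₁.symm j, by simp⟩ hj
    · rw [← e₀.sum_comp, orbitHom_X hm, ← e₁.symm.sum_comp]
      simp [Fintype.sum_sum_type, hπB, B]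
      rfl

variable [IsAlgClosed k] [Algebra.FiniteType k A]

/-- The engine, for a linear action: an integral valued point of the orbit map gives a one-parameter limit. -/
theorem exists_oneParam (hG : HopfRep.IsLinearlyReductive k A) (hlin : GLin.IsLinear k A ι) (v : ι → k)
    (𝕍 : Valued k) (φ : A →ₐ[k] 𝕍.L)
    (hv : ∀ i, φ (GLin.orbitHom k A (GLin.vecPt k ι v) (MvPolynomial.X i)) ∈ 𝕍.O) :
    ∃ lam : A →ₐc[k] k[T;T⁻¹],
      (∀ i, ∀ n < 0, GITLib.orbitCoeff lam v i n = 0) ∧
      ((∀ i, 𝕍.red ⟨_, hv i⟩ = 0) → ∀ i, GITLib.orbitCoeff lam v i 0 = 0) ∧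
      ((∃ a, φ a ∉ 𝕍.O) → ¬ SGA3t2b.IsTrivialBialgHom lam) := by
  obtain ⟨N, π, e, hπ, he⟩ := exists_embedding (k := k) (A := A) hlin
  obtain ⟨v', hz, hv'⟩ := he v
  have hφ : ∀ j, ∑ l, algebraMap k 𝕍.L (v' l) * φ (π (GLn.X l j)) = φ (∑ l, v' l • π (GLn.X l j)) := fun j => by
    simp [map_sum, Algebra.smul_def]
  have hmem : ∀ j, ∑ l, algebraMap k 𝕍.L (v' l) * φ (π (GLn.X l j)) ∈ 𝕍.O := by
    intro j
    rw [hφ]
    by_cases hj : j ∈ Set.range e
    · obtain ⟨i, rfl⟩ := hj
      rw [hv']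
      exact hv i
    · rw [hz j hj, map_zero]
      exact zero_mem _
  obtain ⟨lam, h1, h2, h3⟩ := HMGroup.exists_oneParam hG hπ 𝕍 φ v' hmem
  have hlam : ∀ i n, GITLib.orbitCoeff lam v i n =
      (∑ l, LaurentPolynomial.C (v' l) * lam (π (GLn.X l (e i)))).coeff n := fun i n => by
    rw [GITLib.orbitCoeff, GLin.lamOrbit, AlgHom.comp_apply, ← hv', map_sum]
    refine congrArg (fun F : k[T;T⁻¹] => F.coeff n) (Finset.sum_congr rfl fun l _ => ?_)
    rw [map_smul, LaurentPolynomial.smul_eq_C_mul]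
    rfl
  refine ⟨lam, fun i n hn => by rw [hlam]; exact h1 _ n hn, fun hs i => ?_, h3⟩
  rw [hlam]
  refine h2 (fun j => ?_) _
  by_cases hj : j ∈ Set.range e
  · obtain ⟨i', rfl⟩ := hj
    have heq : (⟨_, hmem (e i')⟩ : 𝕍.O) = ⟨_, hv i'⟩ := Subtype.ext ((hφ _).trans (congrArg φ (hv' i')))
    rw [heq]
    exact hs i'
  · have heq : (⟨_, hmem j⟩ : 𝕍.O) = 0 :=
      Subtype.ext ((hφ _).trans ((congrArg φ (hz j hj)).trans (map_zero _)))
    rw [heq, map_zero]

/-- A point with a limit along a non-trivial one-parameter subgroup is not stable. -/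
theorem not_isStablePt_of_hasLimit {lam : A →ₐc[k] k[T;T⁻¹]} (hlam : ¬ SGA3t2b.IsTrivialBialgHom lam)
    {x : MvPolynomial ι k →ₐ[k] k} (h : GLin.HasLimit k A lam x) : ¬ GLin.IsStablePt k A x := by
  classical
  obtain ⟨P, hP⟩ := h
  let l : A →ₐ[k] k[T;T⁻¹] := lam
  let g : k → A →ₐ[k] k := fun t =>
    if h : t = 0 then Bialgebra.counitAlgHom k A else (evL (AlgHom.id k k) (Units.mk0 t h)).comp l
  have hg : ∀ t : kˣ, g (t : k) = (evL (AlgHom.id k k) t).comp l := fun t => by
    simp only [g, dif_neg t.ne_zero, Units.mk0_val]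
  have hmulU : ∀ t s : kˣ, pmul (g t) (g s) = g ((t * s : kˣ) : k) := by
    intro t s
    rw [hg, hg, hg]
    refine AlgHom.ext fun a => ?_
    change (WithConv.toConv ((evL (AlgHom.id k k) t).comp l) * WithConv.toConv ((evL (AlgHom.id k k) s).comp l)).ofConv a = _
    rw [AlgHom.convMul_apply]
    have hl : CoalgebraStruct.comul (R := k) (l a) =
        TensorProduct.map (lam : A →ₗ[k] k[T;T⁻¹]) (lam : A →ₗ[k] k[T;T⁻¹]) (CoalgebraStruct.comul (R := k) a) :=
      (CoalgHomClass.map_comp_comul_apply lam a).symm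
    have h1 : ∀ F : k[T;T⁻¹], Algebra.TensorProduct.lift (evL (AlgHom.id k k) t) (evL (AlgHom.id k k) s)
        (fun _ _ => Commute.all _ _) (CoalgebraStruct.comul (R := k) F) = evL (AlgHom.id k k) (t * s) F := by
      intro F
      induction F using LaurentPolynomial.induction_on' with
      | add p q hp hq => simp only [map_add, hp, hq]
      | C_mul_T n c =>
        rw [← smul_eq_C_mul, map_smul, LaurentPolynomial.comul_T]
        simp [evL_T, mul_zpow]
    rw [AlgHom.comp_apply, ← h1, hl]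
    induction CoalgebraStruct.comul (R := k) a using TensorProduct.induction_on with
    | zero => simp
    | add y z hy hz => simp only [map_add, hy, hz]
    | tmul y z => simp [l]
  have hmul : ∀ t s : k, t ≠ 0 → s ≠ 0 → pmul (g t) (g s) = g (t * s) := fun t s ht hs => by
    simpa using hmulU (Units.mk0 t ht) (Units.mk0 s hs)
  refine LimitStable.not_isStablePt_of_limit x g hmul P (fun t ht f => ?_) fun hfin => hlam fun a => ?_
  · have e : (evL (AlgHom.id k k) (Units.mk0 t ht)).comp Polynomial.toLaurentAlg = Polynomial.aeval t :=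
      Polynomial.algHom_ext (by simp [evL_T])
    have h1 := AlgHom.congr_fun e (P f)
    rw [AlgHom.comp_apply, show Polynomial.toLaurentAlg (P f) = GLin.lamOrbit k A lam x f from AlgHom.congr_fun hP f] at h1
    rw [show g t = g ((Units.mk0 t ht : kˣ) : k) from rfl, hg]
    exact h1.symm
  -- finitely many values: the subgroup is trivial
  · have hinf : ({t : k | t ≠ 0}).Infinite := (Set.finite_singleton (0 : k)).infinite_compl
    obtain ⟨w, hw⟩ : ∃ w, {t : k | t ≠ 0 ∧ g t = w}.Infinite := by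
      by_contra hc
      push Not at hc
      refine hinf ((hfin.biUnion fun w _ => hc w).subset fun t ht => ?_)
      simp only [Set.mem_iUnion]
      exact ⟨g t, ⟨t, ht, rfl⟩, ht, rfl⟩
    obtain ⟨t₀, ht₀, hw₀⟩ := hw.nonempty
    let c : k := CoalgebraStruct.counit (R := k) a
    have hroots : {t : k | t ≠ 0 ∧ g t = w}.Infinite := hw
    have hker : ∀ t, t ≠ 0 → g t = w → g (t * t₀⁻¹) = Bialgebra.counitAlgHom k A := by
      intro t ht htw
      have hone : g (t₀ * t₀⁻¹) = Bialgebra.counitAlgHom k A := by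
        rw [mul_inv_cancel₀ ht₀, show g (1 : k) = g (((1 : kˣ) : k)) by simp, hg]
        refine AlgHom.ext fun b => ?_
        have h2 := CoalgHomClass.counit_comp_apply lam b
        change evL (AlgHom.id k k) 1 (l b) = CoalgebraStruct.counit (R := k) b
        rw [← h2]
        have h3 : evL (AlgHom.id k k) (1 : kˣ) = Bialgebra.counitAlgHom k k[T;T⁻¹] := by
          refine AlgHom.ext fun F => ?_
          induction F using LaurentPolynomial.induction_on' with
          | add p q hp hq => simp only [map_add, hp, hq]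
          | C_mul_T n c =>
            rw [← smul_eq_C_mul, map_smul, map_smul, evL_T, Bialgebra.counitAlgHom_apply, LaurentPolynomial.counit_T]
            simp
        rw [h3]
        rfl
      rw [← hmul t _ ht (inv_ne_zero ht₀), htw, ← hw₀, hmul t₀ _ ht₀ (inv_ne_zero ht₀), hone]
    obtain ⟨m, Q, hQ⟩ := LaurentPolynomial.exists_T_pow (l a - algebraMap k k[T;T⁻¹] c)
    have hQ0 : Q = 0 := by
      refine Polynomial.eq_zero_of_infinite_isRoot _ ((hroots.image (f := fun t => t * t₀⁻¹)
        ((mul_left_injective₀ (inv_ne_zero ht₀)).injOn)).mono ?_)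
      rintro _ ⟨t, ⟨ht, htw⟩, rfl⟩
      have hs : t * t₀⁻¹ ≠ 0 := mul_ne_zero ht (inv_ne_zero ht₀)
      have e : (evL (AlgHom.id k k) (Units.mk0 _ hs)).comp Polynomial.toLaurentAlg = Polynomial.aeval (t * t₀⁻¹) :=
        Polynomial.algHom_ext (by simp [evL_T])
      have h1 := AlgHom.congr_fun e Q
      have h4 : evL (AlgHom.id k k) (Units.mk0 _ hs) (l a) = c := by
        have := AlgHom.congr_fun ((hg (Units.mk0 _ hs)).symm.trans (hker t ht htw)) a
        exact this
      rw [AlgHom.comp_apply, Polynomial.toLaurentAlg_apply, hQ, map_mul, map_sub, h4, AlgHom.commutes,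
        Algebra.algebraMap_self_apply, sub_self, zero_mul] at h1
      exact h1.symm
    rw [hQ0, map_zero] at hQ
    exact sub_eq_zero.1 (((isUnit_T (R := k) (m : ℤ)).mul_left_eq_zero).1 hQ.symm)

end Groth.Agent.H85.HMLinear
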