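import Groth.Prelude.Def_Pi1
import Mathlib

/-!
# The invariants of the inertia group are standard étale over the invariants of the group
-/

set_option autoImplicit false

universe u

noncomputable section

namespace Groth.Agent.H85.InertiaEtale

open Polynomial
open scoped Pointwise

variable {G R : Type u} [Group G] [Finite G] [CommRing R] [MulSemiringAction G R] (q : Ideal R) [q.IsPrime]

omit [q.IsPrime] [Finite G] in
theorem mem_inertia_iff {σ : G} : σ ∈ q.inertia G ↔ ∀ x, σ • x - x ∈ q := Iff.rfl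

omit [q.IsPrime] in
theorem smul_mem_of_inertia {σ : G} (hσ : σ ∈ q.inertia G) {x : R} (hx : x ∈ q) : σ • x ∈ q := by
  have := hσ x
  exact (Submodule.sub_mem_iff_left q hx).mp this

/-- the endomorphism of the residue field induced by an element of the decomposition group -/
def resMap (σ : MulAction.stabilizer G q) : R ⧸ q ≃+* R ⧸ q :=
  Ideal.quotientEquiv q q (MulSemiringAction.toRingEquiv G R (σ : G)) (by
    conv_lhs => rw [← MulAction.mem_stabilizer_iff.mp σ.2]
    rfl)

theorem resMap_mk (σ : MulAction.stabilizer G q) (x : R) :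
    resMap q σ (Ideal.Quotient.mk q x) = Ideal.Quotient.mk q ((σ : G) • x) := rfl

/-- the action of the decomposition group on the residue field -/
def resHom : MulAction.stabilizer G q →* (FractionRing (R ⧸ q) ≃+* FractionRing (R ⧸ q)) where
  toFun σ := IsFractionRing.ringEquivOfRingEquiv (resMap q σ)
  map_one' := by
    refine RingEquiv.toRingHom_injective (IsLocalization.ringHom_ext (nonZeroDivisors (R ⧸ q)) (RingHom.ext fun x => ?_))
    obtain ⟨x, rfl⟩ := Ideal.Quotient.mk_surjective x
    simp [resMap_mk]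
  map_mul' σ τ := by
    refine RingEquiv.toRingHom_injective (IsLocalization.ringHom_ext (nonZeroDivisors (R ⧸ q)) (RingHom.ext fun x => ?_))
    obtain ⟨x, rfl⟩ := Ideal.Quotient.mk_surjective x
    simp [resMap_mk, mul_smul, RingAut.mul_apply]

theorem resHom_mk (σ : MulAction.stabilizer G q) (x : R) :
    resHom q σ (algebraMap _ _ (Ideal.Quotient.mk q x)) = algebraMap _ _ (Ideal.Quotient.mk q ((σ : G) • x)) := by
  simp [resHom, resMap_mk]

/-- an element moved modulo `q` by every element of the decomposition group outside inertia, not in `q` -/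
theorem exists_residue_primitive : ∃ a : R, a ∉ q ∧
    ∀ σ ∈ MulAction.stabilizer G q, σ ∉ q.inertia G → σ • a - a ∉ q := by
  classical
  let F := FractionRing (R ⧸ q)
  let H : Subgroup (F ≃+* F) := (resHom (G := G) q).range
  haveI : Finite H := Finite.of_surjective _ (resHom q).rangeRestrict_surjective
  haveI : Fintype H := Fintype.ofFinite H
  haveI : FaithfulSMul H F := ⟨fun h => Subtype.ext (RingEquiv.ext h)⟩
  obtain ⟨x, hx⟩ : ∃ x : F, ∀ h : H, h • x = x → h = 1 := by
    obtain ⟨x, hx⟩ := Field.exists_primitive_element (FixedPoints.subfield H F) F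
    refine ⟨x, fun g hg ↦ eq_of_smul_eq_smul fun y : F ↦ ?_⟩
    have halg : Algebra.adjoin (FixedPoints.subfield H F) {x} = ⊤ := by
      rw [← IntermediateField.adjoin_simple_toSubalgebra_of_isAlgebraic
        (Algebra.IsAlgebraic.isAlgebraic x), hx, IntermediateField.top_toSubalgebra]
    have := AlgHom.ext_of_adjoin_eq_top halg (φ₁ := MulSemiringAction.toAlgHom (FixedPoints.subfield H F) F g)
      (φ₂ := AlgHom.id _ _) (by rintro z (rfl : z = x); simpa using hg)
    rw [one_smul]
    exact congr($this y)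
  obtain ⟨⟨a0, s⟩, hs⟩ := IsLocalization.surj (nonZeroDivisors (R ⧸ q)) x
  have hs0 : algebraMap (R ⧸ q) F s ≠ 0 := IsFractionRing.to_map_ne_zero_of_mem_nonZeroDivisors s.2
  let N : F := ∏ h : H, h • algebraMap (R ⧸ q) F s
  have hN : ∀ h : H, h • N = N := fun h => by
    rw [Finset.smul_prod']
    exact Fintype.prod_equiv (Equiv.mulLeft h) _ _ fun g => by simp [mul_smul]
  have hN0 : N ≠ 0 := Finset.prod_ne_zero_iff.mpr fun h _ => fun h0 =>
    hs0 ((h : F ≃+* F).injective (h0.trans (map_zero (h : F ≃+* F)).symm))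
  have hrange : ∀ h : H, h • algebraMap (R ⧸ q) F s ∈ (algebraMap (R ⧸ q) F).range := by
    rintro ⟨_, σ, rfl⟩
    obtain ⟨r, hr⟩ := Ideal.Quotient.mk_surjective (s : R ⧸ q)
    refine ⟨Ideal.Quotient.mk q ((σ : G) • r), ?_⟩
    rw [← resHom_mk, hr]
    rfl
  obtain ⟨a1, ha1⟩ : x * N ∈ (algebraMap (R ⧸ q) F).range := by
    simp only [N]
    rw [← Finset.mul_prod_erase _ _ (Finset.mem_univ (1 : H)), one_smul, ← mul_assoc, hs]
    exact Subring.mul_mem _ ⟨a0, rfl⟩ (Subring.prod_mem _ fun h _ => hrange h)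
  obtain ⟨a, rfl⟩ := Ideal.Quotient.mk_surjective a1
  have key : ∀ σ ∈ MulAction.stabilizer G q, σ ∉ q.inertia G → σ • a - a ∉ q := by
    intro σ hσ hI hmem
    have h1 := resHom_mk q ⟨σ, hσ⟩ a
    rw [show Ideal.Quotient.mk q (σ • a) = Ideal.Quotient.mk q a from Ideal.Quotient.eq.mpr hmem, ha1] at h1
    let h : H := ⟨resHom q ⟨σ, hσ⟩, ⟨⟨σ, hσ⟩, rfl⟩⟩
    have h2 : h • (x * N) = x * N := h1
    rw [smul_mul', hN] at h2
    have h3 := hx h (mul_right_cancel₀ hN0 h2)
    refine hI fun y => Ideal.Quotient.eq.mp (IsFractionRing.injective (R ⧸ q) F ?_)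
    rw [← resHom_mk q ⟨σ, hσ⟩ y, show resHom q ⟨σ, hσ⟩ = 1 from congrArg Subtype.val h3]
    rfl
  by_cases ha : a ∈ q
  · refine ⟨1, (Ideal.ne_top_iff_one q).mp Ideal.IsPrime.ne_top', fun σ hσ hI => absurd ?_ (key σ hσ hI)⟩
    refine Submodule.sub_mem _ ?_ ha
    have : σ • a ∈ σ • q := Ideal.smul_mem_pointwise_smul σ a q ha
    rwa [MulAction.mem_stabilizer_iff.mp hσ] at this
  · exact ⟨a, ha, key⟩

/-- an element fixed by the decomposition group, outside `q`, inside all other conjugates -/
theorem exists_separating : ∃ c : R, c ∉ q ∧ (∀ σ ∈ MulAction.stabilizer G q, σ • c = c) ∧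
    ∀ σ : G, σ ∉ MulAction.stabilizer G q → σ • c ∈ q := by
  classical
  cases nonempty_fintype G
  have hex : ∀ σ : G, σ ∉ MulAction.stabilizer G q → ∃ c ∉ q, σ • c ∈ q := by
    intro σ hσ
    by_contra h
    push Not at h
    have hle : σ⁻¹ • q ≤ q := fun c hc => by
      by_contra hcq
      exact h c hcq (Ideal.mem_inv_pointwise_smul_iff.mp hc)
    have hpow : ∀ n : ℕ, (σ⁻¹) ^ n • q ≤ q := by
      intro n
      induction n with
      | zero => rw [pow_zero, one_smul]
      | succ n ih =>
        rw [pow_succ', mul_smul]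
        exact (Ideal.map_mono ih).trans hle
    refine hσ (inv_mem_iff.mp (MulAction.mem_stabilizer_iff.mpr (le_antisymm hle ?_)))
    obtain ⟨n, hn⟩ : ∃ n : ℕ, (σ⁻¹) ^ n = σ :=
      (mem_powers_iff_mem_zpowers (x := σ⁻¹) (y := σ)).mpr ⟨-1, by simp⟩
    intro c hc
    have : (σ⁻¹) ^ n • q ≤ q := hpow n
    rw [hn] at this
    rw [Ideal.mem_inv_pointwise_smul_iff]
    exact this (Ideal.smul_mem_pointwise_smul σ c q hc)
  choose! cf hcf using hex
  let c0 := ∏ σ ∈ Finset.univ.filter (fun σ => σ ∉ MulAction.stabilizer G q), cf σ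
  have hc0 : c0 ∉ q := fun h => by
    obtain ⟨σ, hσ, hσ'⟩ := Ideal.IsPrime.prod_mem_iff.mp h
    exact (hcf σ (Finset.mem_filter.mp hσ).2).1 hσ'
  refine ⟨∏ σ : MulAction.stabilizer G q, (σ : G) • c0, fun h => ?_, fun σ hσ => ?_, fun σ hσ => ?_⟩
  · obtain ⟨τ, -, hτ⟩ := Ideal.IsPrime.prod_mem_iff.mp h
    refine hc0 ?_
    rw [← Ideal.smul_mem_pointwise_smul_iff (a := (τ : G)), MulAction.mem_stabilizer_iff.mp τ.2]
    exact hτ
  · rw [Finset.smul_prod']
    exact Fintype.prod_equiv (Equiv.mulLeft ⟨σ, hσ⟩) _ _ fun τ => by simp [mul_smul]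
  · rw [Finset.smul_prod']
    refine Ideal.prod_mem _ (Finset.mem_univ (1 : MulAction.stabilizer G q)) ?_
    rw [OneMemClass.coe_one, one_smul, Finset.smul_prod']
    exact Ideal.prod_mem _ (Finset.mem_filter.mpr ⟨Finset.mem_univ σ, hσ⟩) (hcf σ hσ).2

/-- an inertia-invariant element whose other conjugates are distinct modulo `q` -/
theorem exists_invariant_separating : ∃ b : R, (∀ σ ∈ q.inertia G, σ • b = b) ∧
    ∀ τ : G, τ ∉ q.inertia G → b - τ • b ∉ q := by
  classical
  cases nonempty_fintype G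
  obtain ⟨a, ha, haσ⟩ := exists_residue_primitive (G := G) q
  obtain ⟨c, hc, hcσ, hcτ⟩ := exists_separating (G := G) q
  let n := Nat.card (q.inertia G)
  have hn : n ≠ 0 := Nat.card_pos.ne'
  let κ := FractionRing (R ⧸ q)
  obtain ⟨e, m, he, hm, hnem⟩ : ∃ e m : ℕ, (∀ y z : κ, y ^ e = z ^ e → y = z) ∧ (m : κ) ≠ 0 ∧
      n = e * m ∧ ∀ y : κ, (X - C y) ^ e = X ^ e - C (y ^ e) := by
    obtain ⟨p, hp⟩ := ExpChar.exists κ
    cases hp with
    | zero => exact ⟨1, n, fun y z h => by simpa using h, Nat.cast_ne_zero.mpr hn, (one_mul _).symm, fun y => by simp⟩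
    | prime hp =>
      haveI := Fact.mk hp
      obtain ⟨v, m, hm, hnm⟩ := Nat.exists_eq_pow_mul_and_not_dvd hn p hp.ne_one
      haveI : ExpChar κ p := ExpChar.prime hp
      refine ⟨p ^ v, m, fun y z h => iterateFrobenius_inj κ p v (by simpa [iterateFrobenius_def] using h),
        fun h => hm ((CharP.cast_eq_zero_iff κ p m).mp h), hnm, fun y => ?_⟩
      rw [sub_pow_expChar_pow, ← C_pow]
  obtain ⟨hn', hfr⟩ := hnem
  have hm0 : m ≠ 0 := fun h => hm (by simp [h])
  have he0 : 0 < e := Nat.pos_of_ne_zero fun h => hn (by simp [hn', h])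
  let F : R[X] := ∏ σ : q.inertia G, (X - C ((σ : G) • (a * c)))
  refine ⟨F.coeff (e * (m - 1)), fun σ hσ => ?_, fun τ hτ => ?_⟩
  · have : F.map (MulSemiringAction.toRingHom G R σ) = F := by
      rw [Polynomial.map_prod]
      exact Fintype.prod_equiv (Equiv.mulLeft ⟨σ, hσ⟩) _ _ fun τ => by simp [mul_smul]
    conv_rhs => rw [← this]
    rw [coeff_map]
    rfl
  · let ψ : R →+* κ := (algebraMap (R ⧸ q) κ).comp (Ideal.Quotient.mk q)
    have hψ : ∀ x, ψ x = 0 ↔ x ∈ q := fun x => by
      simp only [ψ, RingHom.comp_apply, map_eq_zero_iff _ (IsFractionRing.injective (R ⧸ q) κ),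
        Ideal.Quotient.eq_zero_iff_mem]
    have hψeq : ∀ x y, x - y ∈ q → ψ x = ψ y := fun x y h => sub_eq_zero.mp (by rw [← map_sub, hψ]; exact h)
    have hconst : ∀ (ρ : G) (σ : q.inertia G), ψ (ρ • (σ : G) • (a * c)) = ψ (ρ • (a * c)) := by
      intro ρ σ
      by_cases hρ : ρ ∈ MulAction.stabilizer G q
      · refine hψeq _ _ ?_
        rw [← smul_sub]
        have : ρ • ((σ : G) • (a * c) - a * c) ∈ ρ • q := Ideal.smul_mem_pointwise_smul ρ _ q (σ.2 (a * c))
        rwa [MulAction.mem_stabilizer_iff.mp hρ] at this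
      · have h1 : ρ * (σ : G) ∉ MulAction.stabilizer G q := fun h =>
          hρ (by simpa using mul_mem h (inv_mem (Ideal.inertia_le_stabilizer q σ.2)))
        rw [← mul_smul, (hψ _).mpr, (hψ _).mpr]
        · rw [smul_mul']
          exact q.mul_mem_left _ (hcτ ρ hρ)
        · rw [smul_mul']
          exact q.mul_mem_left _ (hcτ _ h1)
    have hcoef : ∀ ρ : G, ψ (ρ • F.coeff (e * (m - 1))) = -(m : κ) * ψ (ρ • (a * c)) ^ e := by
      intro ρ
      have hmap : F.map (ψ.comp (MulSemiringAction.toRingHom G R ρ)) =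
          expand κ e ((X - C (ψ (ρ • (a * c)) ^ e)) ^ m) := by
        rw [Polynomial.map_prod, Finset.prod_congr rfl fun σ _ => show _ = X - C (ψ (ρ • (a * c))) by
            rw [Polynomial.map_sub, map_X, map_C, RingHom.comp_apply, MulSemiringAction.toRingHom_apply, hconst],
          Finset.prod_const, Finset.card_univ, ← Nat.card_eq_fintype_card, map_pow, map_sub, expand_X, expand_C,
          ← hfr, ← pow_mul, ← hn']
      have := congrArg (fun P => P.coeff (e * (m - 1))) hmap
      simp only [coeff_map, RingHom.comp_apply, MulSemiringAction.toRingHom_apply] at this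
      rw [this, mul_comm e, coeff_expand_mul he0, sub_eq_add_neg, ← C_neg, coeff_X_add_C_pow]
      rw [show m - (m - 1) = 1 by omega, pow_one, Nat.choose_symm (by omega) |>.symm,
        show m - (m - 1) = 1 by omega, Nat.choose_one_right]
      ring
    intro hmem
    have h1 := hcoef τ
    have h2 := hcoef 1
    rw [one_smul, one_smul] at h2
    rw [← hψeq _ _ hmem, h2] at h1
    have h3 := he _ _ (mul_left_cancel₀ (neg_ne_zero.mpr hm) h1)
    have h4 : a * c - τ • (a * c) ∈ q := by rw [← hψ, map_sub, h3, sub_self]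
    by_cases hτD : τ ∈ MulAction.stabilizer G q
    · rw [smul_mul', hcσ τ hτD, ← sub_mul] at h4
      refine haσ τ hτD hτ ?_
      rw [← neg_sub]
      exact q.neg_mem ((Ideal.IsPrime.mem_or_mem ‹_› h4).resolve_right hc)
    · have h5 : τ • (a * c) ∈ q := by rw [smul_mul']; exact q.mul_mem_left _ (hcτ τ hτD)
      exact (Ideal.IsPrime.mem_or_mem ‹_› ((Submodule.sub_mem_iff_left q h5).mp h4)).elim ha hc

/-- The inertia invariants are étale over the invariants near `q`. -/
theorem exists_etale : ∃ g : FixedPoints.subring R (q.inertia G),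
      g ∉ q.comap (FixedPoints.subring R (q.inertia G)).subtype ∧
      Algebra.Etale (FixedPoints.subring R G) (Localization.Away g) := by
  classical
  cases nonempty_fintype G
  let I := q.inertia G
  let A := FixedPoints.subring R G
  let B := FixedPoints.subring R I
  obtain ⟨b, hb, hbτ⟩ := exists_invariant_separating (G := G) q
  let bB : B := ⟨b, fun σ => hb σ σ.2⟩
  -- conjugates indexed by the cosets
  let conj : B → G ⧸ I → R := fun x => Quotient.lift (fun τ : G => τ • (x : R)) fun τ τ' h => by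
    have h' : (τ⁻¹ * τ') • (x : R) = x := x.2 ⟨_, QuotientGroup.leftRel_apply.mp h⟩
    change τ • (x : R) = τ' • (x : R)
    conv_rhs => rw [← mul_inv_cancel_left τ τ', mul_smul, h']
  have hconj : ∀ x (τ : G), conj x (τ : G ⧸ I) = τ • (x : R) := fun _ _ => rfl
  have hconjsmul : ∀ (x : B) (ρ : G) (k : G ⧸ I), ρ • conj x k = conj x (ρ • k) := by
    intro x ρ k
    induction k using QuotientGroup.induction_on with
    | H τ => rw [MulAction.Quotient.smul_coe, hconj, hconj, smul_eq_mul, mul_smul]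
  let P : R[X] := ∏ k : G ⧸ I, (X - C (conj bB k))
  have hlifts : ∀ Q : R[X], (∀ ρ : G, Q.map (MulSemiringAction.toRingHom G R ρ) = Q) →
      ∃ Q' : A[X], Q'.map A.subtype = Q := fun Q hQ => by
    refine (mem_lifts _).mp ((lifts_iff_coeff_lifts _).mpr fun i => ?_)
    refine ⟨⟨Q.coeff i, fun ρ => ?_⟩, rfl⟩
    conv_rhs => rw [← hQ ρ, coeff_map]
    rfl
  have hPinv : ∀ ρ : G, P.map (MulSemiringAction.toRingHom G R ρ) = P := fun ρ => by
    rw [Polynomial.map_prod]
    exact Fintype.prod_equiv (MulAction.toPerm ρ) _ _ fun k => by simp [hconjsmul]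
  obtain ⟨PA, hPA⟩ := hlifts P hPinv
  have hPmonic : P.Monic := monic_prod_of_monic _ _ fun k _ => monic_X_sub_C _
  have hPAmonic : PA.Monic := monic_of_injective A.subtype_injective (hPA ▸ hPmonic)
  have hroot : aeval bB PA = 0 := by
    refine Subtype.ext ?_
    rw [show ((aeval bB PA : B) : R) = B.subtype (eval₂ (algebraMap A B) bB PA) from rfl, hom_eval₂]
    rw [show B.subtype.comp (algebraMap A B) = A.subtype from rfl, ← eval_map, hPA, eval_prod,
      ZeroMemClass.coe_zero, Finset.prod_eq_zero (Finset.mem_univ ((1 : G) : G ⧸ I))]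
    simp [hconj, bB]
  let δ : B := aeval bB (derivative PA)
  have hδ : (δ : R) = ∏ k ∈ Finset.univ.erase ((1 : G) : G ⧸ I), (b - conj bB k) := by
    change B.subtype (eval₂ (algebraMap A B) bB (derivative PA)) = _
    rw [hom_eval₂, show B.subtype.comp (algebraMap A B) = A.subtype from rfl, ← eval_map, ← derivative_map, hPA,
      derivative_prod_finset, eval_finsetSum, Finset.sum_eq_single ((1 : G) : G ⧸ I)]
    · simp [eval_prod, bB]
    · intro k _ hk
      rw [eval_mul, eval_prod, Finset.prod_eq_zero (i := ((1 : G) : G ⧸ I)) (by simp [hk.symm]) (by simp [hconj, bB]),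
        zero_mul]
    · simp
  refine ⟨δ, fun h => ?_, ?_⟩
  · have h' : (δ : R) ∈ q := h
    rw [hδ] at h'
    obtain ⟨k, hk, hk'⟩ := Ideal.IsPrime.prod_mem_iff.mp h'
    induction k using QuotientGroup.induction_on with
    | H τ =>
      change b - τ • b ∈ q at hk'
      refine hbτ τ (fun hτ => (Finset.mem_erase.mp hk).1 ?_) hk'
      exact QuotientGroup.eq.mpr (by rw [mul_one]; exact inv_mem hτ)
  -- Euler: `δ B ⊆ A[b]`
  have hEuler : ∀ x : B, ∃ Q : A[X], aeval bB Q = x * δ := by
    intro x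
    let E : R[X] := ∑ k : G ⧸ I, C (conj x k) * ∏ l ∈ Finset.univ.erase k, (X - C (conj bB l))
    have hE : ∀ ρ : G, E.map (MulSemiringAction.toRingHom G R ρ) = E := fun ρ => by
      rw [Polynomial.map_sum]
      refine Fintype.sum_equiv (MulAction.toPerm ρ) _ _ fun k => ?_
      rw [Polynomial.map_mul, map_C, Polynomial.map_prod, MulSemiringAction.toRingHom_apply, hconjsmul]
      congr 1
      refine Finset.prod_equiv (MulAction.toPerm ρ) (fun l => by simp) (fun l _ => ?_)
      simp [hconjsmul]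
    obtain ⟨Q, hQ⟩ := hlifts E hE
    refine ⟨Q, Subtype.ext ?_⟩
    rw [MulMemClass.coe_mul, hδ]
    change B.subtype (eval₂ (algebraMap A B) bB Q) = _
    rw [hom_eval₂, show B.subtype.comp (algebraMap A B) = A.subtype from rfl, ← eval_map, hQ, eval_finsetSum,
      Finset.sum_eq_single ((1 : G) : G ⧸ I)]
    · simp [eval_prod, bB, hconj]
    · intro k _ hk
      rw [eval_mul, eval_prod, Finset.prod_eq_zero (i := ((1 : G) : G ⧸ I)) (by simp [hk.symm]) (by simp [hconj, bB]),
        mul_zero]
    · simp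
  -- the kernel
  have hker : ∀ Q : A[X], aeval bB Q = 0 → PA ∣ derivative PA * Q := by
    intro Q hQ
    rw [← Polynomial.map_dvd_map A.subtype A.subtype_injective hPAmonic, hPA, Polynomial.map_mul, ← derivative_map, hPA,
      derivative_prod_finset, Finset.sum_mul]
    refine Finset.dvd_sum fun k _ => ?_
    have hk : (Q.map A.subtype).eval (conj bB k) = 0 := by
      induction k using QuotientGroup.induction_on with
      | H τ =>
        have h0 : (Q.map A.subtype).eval b = 0 := by
          rw [eval_map, show A.subtype = B.subtype.comp (algebraMap A B) from rfl]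
          change eval₂ _ (B.subtype bB) Q = 0
          rw [← hom_eval₂, show eval₂ (algebraMap A B) bB Q = 0 from hQ, map_zero]
        have := congrArg (MulSemiringAction.toRingHom G R τ) h0
        rw [map_zero, eval_map, hom_eval₂,
          show (MulSemiringAction.toRingHom G R τ).comp A.subtype = A.subtype from RingHom.ext fun a => a.2 τ] at this
        rw [hconj, eval_map]
        exact this
    obtain ⟨Q', hQ'⟩ := dvd_iff_isRoot.mpr hk
    rw [derivative_X_sub_C, mul_one, hQ', ← mul_assoc]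
    exact Dvd.dvd.mul_right (Finset.prod_erase_mul _ _ (Finset.mem_univ k)).symm.dvd _
  -- the isomorphism with the standard étale algebra
  let S : StandardEtalePair A := ⟨PA, hPAmonic, derivative PA, 1, 0, 1, by simp⟩
  haveI : Algebra.Etale A (Localization.Away (AdjoinRoot.mk S.f S.g)) := Algebra.Etale.of_equiv S.equivAwayAdjoinRoot
  let j : AdjoinRoot PA →ₐ[A] B := AdjoinRoot.liftAlgHom PA (Algebra.ofId A B) bB hroot
  have hj : ∀ Q : A[X], j (AdjoinRoot.mk PA Q) = aeval bB Q := fun Q => AdjoinRoot.liftAlgHom_mk ..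
  have hu : IsUnit (((IsScalarTower.toAlgHom A B (Localization.Away δ)).comp j) (AdjoinRoot.mk S.f S.g)) := by
    rw [AlgHom.comp_apply]
    change IsUnit (algebraMap B _ (j (AdjoinRoot.mk PA (derivative PA))))
    rw [hj]
    exact IsLocalization.Away.algebraMap_isUnit δ
  let Φ : Localization.Away (AdjoinRoot.mk S.f S.g) →ₐ[A] Localization.Away δ :=
    IsLocalization.Away.liftAlgHom (AdjoinRoot.mk S.f S.g) (f := (IsScalarTower.toAlgHom A B _).comp j) hu
  have hΦ : ∀ y, Φ (algebraMap (AdjoinRoot PA) _ y) = algebraMap B _ (j y) := fun y =>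
    IsLocalization.Away.lift_eq _ hu y
  refine Algebra.Etale.of_equiv (AlgEquiv.ofBijective Φ ⟨?_, ?_⟩)
  · rw [injective_iff_map_eq_zero]
    intro z hz
    obtain ⟨n, y, hy⟩ := IsLocalization.Away.surj (AdjoinRoot.mk S.f S.g) z
    have h1 : algebraMap B (Localization.Away δ) (j y) = 0 := by
      rw [← hΦ, ← hy, map_mul, hz, zero_mul]
    obtain ⟨⟨_, l, rfl⟩, hl⟩ := (IsLocalization.map_eq_zero_iff (Submonoid.powers δ) _ _).mp h1
    obtain ⟨Q, rfl⟩ := AdjoinRoot.mk_surjective y
    rw [hj] at hl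
    have h2 := hker (derivative PA ^ l * Q) (by rw [map_mul, map_pow]; exact hl)
    have hunit : IsUnit (algebraMap (AdjoinRoot PA) (Localization.Away (AdjoinRoot.mk S.f S.g))
        (AdjoinRoot.mk PA (derivative PA))) := IsLocalization.Away.algebraMap_isUnit _
    rw [← AdjoinRoot.mk_eq_zero, map_mul, map_mul, map_pow, ← mul_assoc, ← pow_succ'] at h2
    have h3 := congrArg (algebraMap (AdjoinRoot PA) (Localization.Away (AdjoinRoot.mk S.f S.g))) h2
    rw [map_mul, map_pow, map_zero, (hunit.pow _).mul_right_eq_zero, ← hy] at h3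
    exact (hunit.pow n).mul_left_eq_zero.mp h3
  · intro z
    obtain ⟨n, x, hx⟩ := IsLocalization.Away.surj δ z
    obtain ⟨Q, hQ⟩ := hEuler x
    have hunit : IsUnit (algebraMap (AdjoinRoot PA) (Localization.Away (AdjoinRoot.mk S.f S.g))
        (AdjoinRoot.mk PA (derivative PA))) := IsLocalization.Away.algebraMap_isUnit _
    refine ⟨algebraMap _ _ (AdjoinRoot.mk PA Q) * ↑(hunit.pow (n + 1)).unit⁻¹, ?_⟩
    have hδu : IsUnit (algebraMap B (Localization.Away δ) δ) := IsLocalization.Away.algebraMap_isUnit δ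
    apply (hδu.pow (n + 1)).mul_left_injective
    change Φ _ * _ = _
    rw [show algebraMap B (Localization.Away δ) δ ^ (n + 1) =
      Φ (algebraMap (AdjoinRoot PA) _ (AdjoinRoot.mk PA (derivative PA)) ^ (n + 1)) by rw [map_pow, hΦ, hj],
      ← map_mul, mul_assoc, IsUnit.val_inv_mul, mul_one, hΦ, hj, hQ, map_mul]
    change _ = z * _
    rw [map_pow, hΦ, hj, pow_succ, ← mul_assoc, hx]

end Groth.Agent.H85.InertiaEtale
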