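import Groth.Prelude.Def_EtGm
import Groth.Agent.S0108
import Mathlib

/-!
# The Kummer sequence on the small étale site
-/

universe u

open CategoryTheory CategoryTheory.Limits AlgebraicGeometry Opposite

namespace Groth.Agent.H85

theorem isUnit_of_residueField {X : Scheme.{u}} (n : ℕ) (h : ∀ x : X, (n : X.residueField x) ≠ 0) :
    IsUnit (n : Γ(X, ⊤)) := by
  refine RingedSpace.isUnit_of_isUnit_germ (X := X.toSheafedSpace) ⊤ (n : Γ(X, ⊤)) fun x hx => ?_
  have h1 : IsUnit ((X.residue x).hom ((X.presheaf.germ ⊤ x hx).hom (n : Γ(X, ⊤)))) := by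
    rw [map_natCast, map_natCast]
    exact (h x).isUnit
  haveI : IsLocalHom (X.residue x).hom :=
    inferInstanceAs (IsLocalHom (IsLocalRing.residue (X.presheaf.stalk x)))
  exact IsUnit.of_map (X.residue x).hom _ h1

/-- The Kummer sequence. -/
noncomputable def kummerSES (X : Scheme.{u}) (n : ℕ) : ShortComplex (EtCoh.Ab X) :=
  ShortComplex.mk (EtCoh.muι X n) (EtCoh.powMap X n) (kernel.condition _)

theorem kummerSES_shortExact {X : Scheme.{u}} (n : ℕ) (h : ∀ x : X, (n : X.residueField x) ≠ 0) :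
    (kummerSES X n).ShortExact where
  exact := ShortComplex.exact_of_f_is_kernel _ (kernelIsKernel _)
  mono_f := (equalizer.ι_mono : Mono (kernel.ι (EtCoh.powMap X n)))
  epi_g := Groth.Agent.S0108.result X n (isUnit_of_residueField n h)

theorem comp_mk₀_nsmul {C : Type*} [Category C] [Abelian C] [HasExt C] {P Y : C} {i : ℕ}
    (x : Abelian.Ext P Y i) (n : ℕ) :
    x.comp (Abelian.Ext.mk₀ (n • 𝟙 Y)) (add_zero i) = n • x := by
  induction n with
  | zero => simp [Abelian.Ext.mk₀_zero]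
  | succ k ih => simp only [succ_nsmul, Abelian.Ext.mk₀_add, Abelian.Ext.comp_add, ih,
      Abelian.Ext.comp_mk₀_id]

/-- Classes killed by `n` come from `μ_n`. -/
theorem exists_of_nsmul_eq_zero {X : Scheme.{u}} {n : ℕ} (h : ∀ x : X, (n : X.residueField x) ≠ 0)
    {i : ℕ} (ξ : EtCoh.H X (EtCoh.Gm X) i) (hξ : n • ξ = 0) :
    ∃ η : EtCoh.H X (EtCoh.mu X n) i, Sheaf.H.map (EtCoh.muι X n) i η = ξ :=
  Abelian.Ext.covariant_sequence_exact₂ _ (kummerSES_shortExact n h) ξ
    ((comp_mk₀_nsmul ξ n).trans hξ)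

theorem nsmul_map_muι {X : Scheme.{u}} (n : ℕ) {i : ℕ} (η : EtCoh.H X (EtCoh.mu X n) i) :
    n • Sheaf.H.map (EtCoh.muι X n) i η = 0 := by
  change n • Abelian.Ext.comp η (Abelian.Ext.mk₀ (EtCoh.muι X n)) (add_zero i) = 0
  rw [← comp_mk₀_nsmul, Abelian.Ext.comp_assoc_of_second_deg_zero, Abelian.Ext.mk₀_comp_mk₀]
  have : EtCoh.muι X n ≫ EtCoh.powMap X n = 0 := kernel.condition _
  exact (congrArg (fun k => Abelian.Ext.comp η (Abelian.Ext.mk₀ k) (add_zero i)) this).trans (by simp)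

end Groth.Agent.H85
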