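import Mathlib
import Groth.Agent.LocFlat.Basic
import Groth.Agent.LocFlat.Fibre

/-!
# Invariants of an étale local equivariant map with the same inertia
-/

set_option autoImplicit false

universe u

noncomputable section

namespace Groth.Agent.H85.LunaCore

open Polynomial IsLocalRing
open scoped TensorProduct

/-- Artin–Rees for a subring: elements of a deep power of the extended ideal are in a power of the ideal. -/
theorem exists_comap_pow_le {P B : Type u} [CommRing P] [CommRing B] [Algebra P B] [IsNoetherianRing P]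
    [Module.Finite P B] (hinj : Function.Injective (algebraMap P B)) (I : Ideal P) :
    ∃ c, ∀ (N : ℕ) (p : P), algebraMap P B p ∈ (I.map (algebraMap P B)) ^ (N + c) → p ∈ I ^ N := by
  obtain ⟨c, hc⟩ := I.exists_pow_inf_eq_pow_smul (M := B) (LinearMap.range (Algebra.linearMap P B))
  refine ⟨c, fun N p hp => ?_⟩
  have h1 : algebraMap P B p ∈ (I ^ (N + c) • ⊤ : Submodule P B) := by
    rw [Ideal.smul_top_eq_map, Submodule.restrictScalars_mem, Ideal.map_pow]
    exact hp
  have h2 : algebraMap P B p ∈ I ^ N • LinearMap.range (Algebra.linearMap P B) := by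
    have h3 := hc (N + c) (Nat.le_add_left _ _)
    rw [Nat.add_sub_cancel] at h3
    exact Submodule.smul_mono le_rfl inf_le_right (h3.le ⟨h1, ⟨p, rfl⟩⟩)
  rw [LinearMap.range_eq_map, ← Submodule.map_smul'', smul_eq_mul, Ideal.mul_top] at h2
  obtain ⟨p', hp', hpp⟩ := h2
  rwa [← hinj hpp]

/-- Artin–Rees for invariants: an element fixed modulo a deep power is invariant modulo a power. -/
theorem exists_invariant_approx {P B G : Type u} [CommRing P] [CommRing B] [Algebra P B] [IsNoetherianRing P]
    [Module.Finite P B] [Group G] [Finite G] [MulSemiringAction G B] [SMulCommClass G P B]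
    [Algebra.IsInvariant P B G] (I : Ideal P) :
    ∃ c, ∀ (N : ℕ) (b : B), (∀ g : G, g • b - b ∈ (I.map (algebraMap P B)) ^ (N + c)) →
      ∃ p : P, b - algebraMap P B p ∈ (I.map (algebraMap P B)) ^ N := by
  classical
  cases nonempty_fintype G
  let d : B →ₗ[P] (G → B) := LinearMap.pi fun g => DistribSMul.toLinearMap P B g - LinearMap.id
  obtain ⟨c, hc⟩ := I.exists_pow_inf_eq_pow_smul (M := G → B) (LinearMap.range d)
  refine ⟨c, fun N b hb => ?_⟩
  have h1 : d b ∈ (I ^ (N + c) • ⊤ : Submodule P (G → B)) := by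
    rw [show d b = ∑ g, LinearMap.single P (fun _ : G => B) g (d b g) from
      (Finset.univ_sum_single (d b)).symm]
    refine Submodule.sum_mem _ fun g _ => ?_
    have h2 : d b g ∈ (I ^ (N + c) • ⊤ : Submodule P B) := by
      rw [Ideal.smul_top_eq_map, Submodule.restrictScalars_mem, Ideal.map_pow]
      exact hb g
    have h3 := Submodule.mem_map_of_mem (f := LinearMap.single P (fun _ : G => B) g) h2
    rw [Submodule.map_smul''] at h3
    exact Submodule.smul_mono le_rfl le_top h3
  have h2 : d b ∈ I ^ N • LinearMap.range d := by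
    have h3 := hc (N + c) (Nat.le_add_left _ _)
    rw [Nat.add_sub_cancel] at h3
    exact Submodule.smul_mono le_rfl inf_le_right (h3.le ⟨h1, ⟨b, rfl⟩⟩)
  rw [LinearMap.range_eq_map, ← Submodule.map_smul''] at h2
  obtain ⟨b', hb', hbb⟩ := h2
  rw [Ideal.smul_top_eq_map, SetLike.mem_coe, Submodule.restrictScalars_mem, Ideal.map_pow] at hb'
  obtain ⟨p, hp⟩ := Algebra.IsInvariant.isInvariant (A := P) (G := G) (b - b') fun g => by
    have : d (b - b') g = 0 := by rw [map_sub, hbb, sub_self, Pi.zero_apply]
    exact sub_eq_zero.mp this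
  exact ⟨p, by rw [hp, sub_sub_cancel]; exact hb'⟩

/-- In the residue field of a ring with a group acting by inertia, a fixed prime-power power of every element
comes from the invariants. -/
theorem exists_invariant_pow {Q A G : Type u} [CommRing Q] [CommRing A] [IsLocalRing Q] [IsLocalRing A] [Algebra Q A]
    [IsLocalHom (algebraMap Q A)] [Group G] [Finite G] [MulSemiringAction G A] [Algebra.IsInvariant Q A G]
    (hI : ∀ (g : G) (a : A), g • a - a ∈ maximalIdeal A) (p : ℕ) [ExpChar (ResidueField A) p] :
    ∃ v : ℕ, ∀ a : A, ∃ θ : Q, residue A (algebraMap Q A θ) = residue A a ^ p ^ v := by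
  classical
  cases nonempty_fintype G
  let n := Nat.card G
  have hn : n ≠ 0 := Nat.card_pos.ne'
  obtain ⟨v, m, hm, hnm⟩ : ∃ v m : ℕ, (m : ResidueField A) ≠ 0 ∧ n = p ^ v * m := by
    cases ‹ExpChar (ResidueField A) p› with
    | zero => exact ⟨0, n, Nat.cast_ne_zero.mpr hn, by simp⟩
    | prime hp =>
      obtain ⟨v, m, hm, hnm⟩ := Nat.exists_eq_pow_mul_and_not_dvd hn p hp.ne_one
      exact ⟨v, m, fun h => hm ((CharP.cast_eq_zero_iff _ p m).mp h), hnm⟩
  have hm0 : m ≠ 0 := fun h => hm (by simp [h])
  have he0 : 0 < p ^ v := Nat.pos_of_ne_zero fun h => hn (by simp [hnm, h])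
  refine ⟨v, fun a => ?_⟩
  let F : A[X] := ∏ g : G, (X - C (g • a))
  obtain ⟨q, hq⟩ := Algebra.IsInvariant.isInvariant (A := Q) (G := G) (F.coeff (p ^ v * (m - 1))) fun g => by
    have : F.map (MulSemiringAction.toRingHom G A g) = F := by
      rw [Polynomial.map_prod]
      exact Fintype.prod_equiv (Equiv.mulLeft g) _ _ fun h => by simp [mul_smul]
    conv_rhs => rw [← this]
    rw [coeff_map]
    rfl
  have hres : residue A (F.coeff (p ^ v * (m - 1))) = -(m : ResidueField A) * residue A a ^ p ^ v := by
    rw [← coeff_map, Polynomial.map_prod, Finset.prod_congr rfl fun g _ => show _ = X - C (residue A a) by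
        rw [Polynomial.map_sub, map_X, map_C, show residue A (g • a) = residue A a from
          (Ideal.Quotient.mk_eq_mk_iff_sub_mem _ _).mpr (hI g a)],
      Finset.prod_const, Finset.card_univ, ← Nat.card_eq_fintype_card, show Nat.card G = p ^ v * m from hnm, pow_mul,
      sub_pow_expChar_pow, ← C_pow]
    have : ((X : (ResidueField A)[X]) ^ p ^ v - C (residue A a ^ p ^ v)) ^ m =
        expand _ (p ^ v) ((X - C (residue A a ^ p ^ v)) ^ m) := by
      simp [map_pow, map_sub, expand_X, expand_C]
    rw [this, mul_comm (p ^ v), coeff_expand_mul he0, sub_eq_add_neg X, ← C_neg, coeff_X_add_C_pow,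
      show m - (m - 1) = 1 by omega, pow_one, Nat.choose_symm (by omega) |>.symm, show m - (m - 1) = 1 by omega,
      Nat.choose_one_right]
    ring
  have hmQ : IsUnit (m : Q) := by
    refine IsUnit.of_map (algebraMap Q A) _ ?_
    rw [map_natCast, ← residue_ne_zero_iff_isUnit, map_natCast]
    exact hm
  refine ⟨-(↑hmQ.unit⁻¹ : Q) * q, ?_⟩
  have h1 : residue A (algebraMap Q A ((↑hmQ.unit⁻¹ : Q) * m)) = 1 := by rw [IsUnit.val_inv_mul, map_one, map_one]
  rw [map_mul, map_mul, map_natCast, map_natCast] at h1
  rw [map_mul, map_mul, map_neg, map_neg, hq, hres]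
  linear_combination (residue A a ^ p ^ v) * h1

variable {P Q B A G : Type u} [CommRing P] [CommRing Q] [CommRing B] [CommRing A] [IsLocalRing P] [IsLocalRing Q]
  [IsLocalRing B] [IsLocalRing A] [IsNoetherianRing P] [IsNoetherianRing Q] [IsNoetherianRing B]
  [Algebra P Q] [Algebra P B] [Algebra Q A] [Algebra B A] [Algebra P A] [IsScalarTower P Q A] [IsScalarTower P B A]
  [Module.Finite P B] [Module.Finite Q A] [IsLocalHom (algebraMap P Q)] [IsLocalHom (algebraMap P B)]
  [IsLocalHom (algebraMap Q A)] [IsLocalHom (algebraMap B A)]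
  [Group G] [Finite G] [MulSemiringAction G B] [MulSemiringAction G A] [SMulCommClass G P B] [SMulCommClass G Q A]
  [Algebra.IsInvariant P B G] [Algebra.IsInvariant Q A G]

/-- Étale local with the same inertia: the invariants are flat, unramified, with separable residue extension. -/
theorem flat_and_unramified [Module.Flat B A] (hP : Function.Injective (algebraMap P B))
    (hQ : Function.Injective (algebraMap Q A)) (hGeq : ∀ (g : G) (b : B), algebraMap B A (g • b) = g • algebraMap B A b)
    (hIA : ∀ (g : G) (a : A), g • a - a ∈ maximalIdeal A)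
    (hunr : (maximalIdeal B).map (algebraMap B A) = maximalIdeal A)
    [Module.Finite (ResidueField B) (ResidueField A)] [Algebra.IsSeparable (ResidueField B) (ResidueField A)] :
    Module.Flat P Q ∧ (maximalIdeal P).map (algebraMap P Q) = maximalIdeal Q ∧
      Algebra.IsSeparable (ResidueField P) (ResidueField Q) := by
  classical
  let kB := ResidueField B
  let kA := ResidueField A
  obtain ⟨p, hp⟩ := ExpChar.exists kB
  haveI : ExpChar kA p := expChar_of_injective_algebraMap (algebraMap kB kA).injective p
  obtain ⟨v, hv⟩ := exists_invariant_pow (Q := Q) (G := G) hIA p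
  obtain ⟨z0, hz0⟩ := Field.exists_primitive_element kB kA
  obtain ⟨a0, rfl⟩ := residue_surjective z0
  obtain ⟨θ, hθ⟩ := hv a0
  set z : kA := residue A (algebraMap Q A θ) with hz
  have hgen : IntermediateField.adjoin kB {z} = ⊤ := by
    rw [hθ, ← IntermediateField.adjoin_simple_eq_adjoin_pow_expChar_pow_of_isSeparable' kB kA (residue A a0) p v, hz0]
  have hzint : IsIntegral kB z := IsIntegral.of_finite kB z
  set d := (minpoly kB z).natDegree with hd
  let mP := maximalIdeal P
  let J := mP.map (algebraMap P B)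
  let JA := mP.map (algebraMap P A)
  let JQ := mP.map (algebraMap P Q)
  have hJA : JA = J.map (algebraMap B A) := by
    simp only [JA, J, Ideal.map_map, ← IsScalarTower.algebraMap_eq]
  have hJQA : JA = JQ.map (algebraMap Q A) := by
    simp only [JA, JQ, Ideal.map_map, ← IsScalarTower.algebraMap_eq]
  let φ : (Fin d → B) →ₗ[B] A := Fintype.linearCombination B fun j => (algebraMap Q A θ) ^ (j : ℕ)
  have hφ : ∀ b, φ b = ∑ j, algebraMap B A (b j) * (algebraMap Q A θ) ^ (j : ℕ) := fun b => by
    simp [φ, Fintype.linearCombination_apply, Algebra.smul_def]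
  have hφres : ∀ b, residue A (φ b) = ∑ j, residue B (b j) • z ^ (j : ℕ) := fun b => by
    rw [hφ, map_sum]
    exact Finset.sum_congr rfl fun j _ => by
      rw [map_mul, map_pow, Algebra.smul_def, ← hz]
      rfl
  have hzli : LinearIndependent kB fun j : Fin d => z ^ (j : ℕ) := linearIndependent_pow z
  -- residue spanning
  have hspan : ∀ a : A, ∃ b, a - φ b ∈ maximalIdeal A := by
    intro a
    have : residue A a ∈ Algebra.adjoin kB {z} := by
      rw [← IntermediateField.adjoin_simple_toSubalgebra_of_isAlgebraic hzint.isAlgebraic, hgen]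
      trivial
    rw [Algebra.adjoin_singleton_eq_range_aeval] at this
    obtain ⟨f, hf⟩ := this
    have hdeg : (f %ₘ minpoly kB z).natDegree < d :=
      natDegree_modByMonic_lt _ (minpoly.monic hzint) (minpoly.ne_one kB z)
    choose b hb using fun j : Fin d => residue_surjective (R := B) ((f %ₘ minpoly kB z).coeff j)
    refine ⟨b, ?_⟩
    rw [← residue_eq_zero_iff, map_sub, sub_eq_zero, hφres]
    simp only [hb]
    rw [← hf, Fin.sum_univ_eq_sum_range fun j => (f %ₘ minpoly kB z).coeff j • z ^ j]
    change aeval z f = _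
    rw [← aeval_modByMonic_eq_self_of_root (minpoly.aeval kB z), aeval_eq_sum_range' hdeg]
  have happrox : ∀ (k : ℕ), LinearMap.range φ ⊔ (maximalIdeal B ^ k • ⊤ : Submodule B A) = ⊤ := by
    have h1 : LinearMap.range φ ⊔ (maximalIdeal B • ⊤ : Submodule B A) = ⊤ := eq_top_iff.mpr fun a _ => by
      obtain ⟨b, hb⟩ := hspan a
      rw [← hunr] at hb
      refine Submodule.mem_sup.mpr ⟨φ b, ⟨b, rfl⟩, a - φ b, ?_, by abel⟩
      rw [Ideal.smul_top_eq_map, Submodule.restrictScalars_mem]
      exact hb
    intro k
    induction k with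
    | zero => rw [pow_zero, Ideal.one_eq_top, Submodule.top_smul, sup_top_eq]
    | succ k ih =>
      refine eq_top_iff.mpr (ih.ge.trans (sup_le le_sup_left ?_))
      conv_lhs => rw [← h1, Submodule.smul_sup, ← Submodule.mul_smul, ← pow_succ]
      exact sup_le_sup_right Submodule.smul_le_right _
  -- powers of `J` and of the maximal ideal are cofinal
  obtain ⟨e, he⟩ : ∃ e, maximalIdeal B ^ e ≤ J := by
    refine Ideal.exists_pow_le_of_le_radical_of_fg ?_ (IsNoetherian.noetherian _)
    rw [Ideal.radical_eq_sInf]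
    refine le_sInf fun q ⟨hq, hqp⟩ => ?_
    haveI := hqp
    have hc : q.comap (algebraMap P B) = mP := ((maximalIdeal.isMaximal P).eq_of_le
      (Ideal.comap_ne_top _ hqp.ne_top) (Ideal.map_le_iff_le_comap.mp hq)).symm
    haveI : Algebra.IsIntegral P B := Algebra.IsIntegral.of_finite P B
    haveI : q.IsMaximal := Ideal.isMaximal_of_isIntegral_of_isMaximal_comap q (by rw [hc]; exact maximalIdeal.isMaximal P)
    exact (IsLocalRing.eq_maximalIdeal ‹q.IsMaximal›).ge
  have happroxJ : ∀ (N : ℕ) (a : A), ∃ b, a - φ b ∈ JA ^ N := by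
    intro N a
    have ha : a ∈ LinearMap.range φ ⊔ (maximalIdeal B ^ (e * N) • ⊤ : Submodule B A) := by rw [happrox]; trivial
    obtain ⟨_, ⟨b, rfl⟩, r, hr, rfl⟩ := Submodule.mem_sup.mp ha
    refine ⟨b, ?_⟩
    rw [add_sub_cancel_left, hJA, ← Ideal.map_pow]
    rw [Ideal.smul_top_eq_map, Submodule.restrictScalars_mem] at hr
    refine Ideal.map_mono ?_ hr
    rw [pow_mul]
    exact Ideal.pow_right_mono he N
  -- independence modulo powers of `J`
  have hindep : ∀ (N : ℕ) (b : Fin d → B), φ b ∈ JA ^ N → ∀ j, b j ∈ J ^ N := by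
    have hclosed : Function.Injective (φ.lTensor kB) := by
      rw [injective_iff_map_eq_zero]
      intro x hx
      obtain ⟨b, rfl⟩ := TensorProduct.mk_surjective B (Fin d → B) kB (by exact residue_surjective) x
      let ev : kB ⊗[B] A →ₗ[B] kA := TensorProduct.lift
        ((LinearMap.mul B kA).compl₁₂ (IsScalarTower.toAlgHom B kB kA).toLinearMap (IsScalarTower.toAlgHom B A kA).toLinearMap)
      have h1 : residue A (φ b) = 0 := by
        have := congrArg ev hx
        change ev ((1 : kB) ⊗ₜ[B] φ b) = ev 0 at this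
        simp [ev] at this
        exact this
      rw [hφres] at h1
      have h2 := Fintype.linearIndependent_iff.mp hzli _ h1
      change (1 : kB) ⊗ₜ[B] b = 0
      rw [← Finset.univ_sum_single b, TensorProduct.tmul_sum]
      refine Finset.sum_eq_zero fun j _ => ?_
      rw [show Pi.single j (b j) = b j • (Pi.single j (1 : B) : Fin d → B) by simp [← Pi.single_smul],
        TensorProduct.tmul_smul, TensorProduct.smul_tmul', Algebra.smul_def, mul_one,
        show algebraMap B kB (b j) = residue B (b j) from rfl, h2 j, TensorProduct.zero_tmul]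
    obtain ⟨hinj, hcok⟩ := LocFlat.injective_and_flat_coker (R := B) (S := B) φ hclosed
    intro N b hb j
    have hinjN : Function.Injective (φ.lTensor (B ⧸ J ^ N)) :=
      LocFlat.lTensor_injective_of_flat_coker φ (LinearMap.range φ).mkQ
        (LinearMap.exact_map_mkQ_range φ) (Submodule.mkQ_surjective _) hinj _
    have h1 : (Ideal.Quotient.mk (J ^ N) 1) ⊗ₜ[B] b = (0 : (B ⧸ J ^ N) ⊗[B] (Fin d → B)) := by
      refine hinjN ?_
      rw [LinearMap.lTensor_tmul, map_zero]
      refine (TensorProduct.quotTensorEquivQuotSMul A (J ^ N)).injective ?_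
      rw [TensorProduct.quotTensorEquivQuotSMul_mk_tmul, map_zero, one_smul, Submodule.Quotient.mk_eq_zero,
        Ideal.smul_top_eq_map, Submodule.restrictScalars_mem, Ideal.map_pow, ← hJA]
      exact hb
    have h2 := congrArg (TensorProduct.quotTensorEquivQuotSMul (Fin d → B) (J ^ N)) h1
    rw [TensorProduct.quotTensorEquivQuotSMul_mk_tmul, map_zero, one_smul, Submodule.Quotient.mk_eq_zero] at h2
    have h3 := Submodule.mem_map_of_mem (f := LinearMap.proj (R := B) (φ := fun _ : Fin d => B) j) h2
    rw [Submodule.map_smul''] at h3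
    have h4 := Submodule.smul_mono (le_refl (J ^ N)) le_top h3
    rwa [smul_eq_mul, Ideal.mul_top] at h4
  -- the invariant coordinates
  obtain ⟨c₁, hc₁⟩ := exists_invariant_approx (P := P) (B := B) (G := G) mP
  obtain ⟨c₂, hc₂⟩ := exists_comap_pow_le hP mP
  obtain ⟨c₃, hc₃⟩ := exists_comap_pow_le hQ JQ
  let ψ : (Fin d → P) →ₗ[P] Q := Fintype.linearCombination P fun j => θ ^ (j : ℕ)
  have hψ : ∀ b, algebraMap Q A (ψ b) = φ fun j => algebraMap P B (b j) := fun b => by
    rw [hφ]
    simp only [ψ, Fintype.linearCombination_apply, Algebra.smul_def, map_sum, map_mul, map_pow,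
      ← IsScalarTower.algebraMap_apply]
  have hθ : ∀ g : G, g • algebraMap Q A θ = algebraMap Q A θ := fun g => by
    rw [Algebra.algebraMap_eq_smul_one, smul_comm, smul_one]
  have hsurjQ : ∀ (n : ℕ) (a : Q), ∃ b, a - ψ b ∈ JQ ^ n := by
    intro n a
    obtain ⟨b, hb⟩ := happroxJ (n + c₃ + c₁) (algebraMap Q A a)
    have hfix : ∀ (g : G) (x : A), x ∈ JA ^ (n + c₃ + c₁) → g • x ∈ JA ^ (n + c₃ + c₁) := by
      intro g x hx
      have h1 := Ideal.mem_map_of_mem (MulSemiringAction.toRingHom G A g) hx
      rw [Ideal.map_pow, hJQA, Ideal.map_map] at h1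
      rw [show (MulSemiringAction.toRingHom G A g).comp (algebraMap Q A) = algebraMap Q A from RingHom.ext fun q => by
        change g • algebraMap Q A q = _
        rw [Algebra.algebraMap_eq_smul_one, smul_comm, smul_one]] at h1
      rw [hJQA]
      exact h1
    have hσ : ∀ g : G, φ (fun j => g • b j - b j) ∈ JA ^ (n + c₃ + c₁) := by
      intro g
      have h1 : φ (fun j => g • b j - b j) = g • φ b - φ b := by
        rw [hφ, hφ, Finset.smul_sum, ← Finset.sum_sub_distrib]
        exact Finset.sum_congr rfl fun j _ => by rw [map_sub, hGeq, sub_mul, smul_mul', smul_pow', hθ]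
      have h2 := sub_mem hb (hfix g _ hb)
      rw [smul_sub, show g • algebraMap Q A a = algebraMap Q A a by
        rw [Algebra.algebraMap_eq_smul_one, smul_comm, smul_one]] at h2
      rw [h1]
      convert h2 using 1
      abel
    choose b' hb' using fun j => hc₁ (n + c₃) (b j) fun g => hindep _ _ (hσ g) j
    refine ⟨b', hc₃ n _ ?_⟩
    rw [← hJQA, map_sub, hψ]
    have h2 : φ b - φ (fun j => algebraMap P B (b' j)) ∈ JA ^ (n + c₃) := by
      rw [hφ, hφ, ← Finset.sum_sub_distrib]
      refine Ideal.sum_mem _ fun j _ => ?_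
      rw [← sub_mul, ← map_sub, hJA, ← Ideal.map_pow]
      exact Ideal.mul_mem_right _ _ (Ideal.mem_map_of_mem _ (hb' j))
    have h3 := add_mem (Ideal.pow_le_pow_right (Nat.le_add_right _ c₁) hb) h2
    rwa [sub_add_sub_cancel] at h3
  have hinjQ : ∀ (n : ℕ) (b : Fin d → P), ψ b ∈ JQ ^ n → ∀ j, b j ∈ mP ^ n := by
    intro n b hb
    obtain ⟨b'', hb'', hbb⟩ : ∃ b'' : Fin d → P, (∀ j, b'' j ∈ mP ^ n) ∧ ψ b - ψ b'' ∈ JQ ^ (n + c₂) := by
      have h1 : ψ b ∈ mP ^ n • (⊤ : Submodule P Q) := by
        rw [Ideal.smul_top_eq_map, Submodule.restrictScalars_mem, Ideal.map_pow]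
        exact hb
      refine Submodule.smul_induction_on (p := fun x => ∃ b'' : Fin d → P, (∀ j, b'' j ∈ mP ^ n) ∧ x - ψ b'' ∈ JQ ^ (n + c₂))
        h1 (fun r hr x _ => ?_) fun x y ⟨b1, h1, h1'⟩ ⟨b2, h2, h2'⟩ =>
          ⟨b1 + b2, fun j => add_mem (h1 j) (h2 j), by rw [map_add, add_sub_add_comm]; exact add_mem h1' h2'⟩
      obtain ⟨bx, hbx⟩ := hsurjQ (n + c₂) x
      refine ⟨r • bx, fun j => Ideal.mul_mem_right _ _ hr, ?_⟩
      rw [LinearMap.map_smul, ← smul_sub, Algebra.smul_def]
      exact Ideal.mul_mem_left _ _ hbx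
    intro j
    have h2 : φ (fun j => algebraMap P B (b j - b'' j)) ∈ JA ^ (n + c₂) := by
      rw [show (fun j => algebraMap P B (b j - b'' j)) = fun j => algebraMap P B ((b - b'') j) from rfl, ← hψ, map_sub,
        hJQA, ← Ideal.map_pow]
      exact Ideal.mem_map_of_mem _ hbb
    have := add_mem (hc₂ n _ (hindep _ _ h2 j)) (hb'' j)
    rwa [sub_add_cancel] at this
  -- the closed fibre
  have hle : JQ ≤ maximalIdeal Q := ((IsLocalRing.local_hom_TFAE (algebraMap P Q)).out 0 2).mp ‹_›
  have hmQ : JQ = maximalIdeal Q := by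
    refine le_antisymm hle fun a ha => ?_
    obtain ⟨b, hb⟩ := hsurjQ 1 a
    rw [pow_one] at hb
    have hψm : ψ b ∈ maximalIdeal Q := by
      have := sub_mem ha (hle hb)
      rwa [sub_sub_cancel] at this
    have h1 : residue A (φ fun j => algebraMap P B (b j)) = 0 := by
      rw [← hψ, residue_eq_zero_iff]
      exact map_nonunit (algebraMap Q A) _ hψm
    rw [hφres] at h1
    have hbm : ∀ j, b j ∈ mP := fun j => by
      have := Fintype.linearIndependent_iff.mp hzli _ h1 j
      rw [residue_eq_zero_iff, mem_maximalIdeal, mem_nonunits_iff] at this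
      exact (mem_maximalIdeal _).mpr (mem_nonunits_iff.mpr fun hu => this (hu.map _))
    have : ψ b ∈ JQ := by
      simp only [ψ, Fintype.linearCombination_apply]
      refine Ideal.sum_mem _ fun j _ => ?_
      rw [Algebra.smul_def]
      exact Ideal.mul_mem_right _ _ (Ideal.mem_map_of_mem _ (hbm j))
    have h3 := add_mem hb this
    rwa [sub_add_cancel] at h3
  refine ⟨?_, hmQ, ?_⟩
  · refine LocFlat.flat_of_forall_pow (S := Q) Q mP (LocFlat.map_le_jacobson mP (maximalIdeal.isMaximal P).ne_top) ?_
    intro n X Y _ _ _ _ a ha hY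
    have hX : ∀ r ∈ mP ^ n, ∀ x : X, r • x = 0 := fun r hr x => ha (by
      rw [map_smul, map_zero, ← Submodule.mem_bot P, ← hY]
      exact Submodule.smul_mem_smul hr trivial)
    have hY' : ∀ r ∈ mP ^ n, ∀ y : Y, r • y = 0 := fun r hr y => by
      rw [← Submodule.mem_bot P, ← hY]
      exact Submodule.smul_mem_smul hr trivial
    have hbij : ∀ (W : Type u) [AddCommGroup W] [Module P W], (∀ r ∈ mP ^ n, ∀ w : W, r • w = 0) →
        Function.Bijective (ψ.lTensor W) := by
      intro W _ _ hW
      have hzero : ∀ {M : Type u} [AddCommGroup M] [Module P M] (x : M), x ∈ mP ^ n • (⊤ : Submodule P M) →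
          ∀ w : W, w ⊗ₜ[P] x = 0 := fun x hx w => by
        refine Submodule.smul_induction_on (p := fun x => w ⊗ₜ[P] x = 0) hx (fun r hr y _ => ?_)
          fun y z hy hz => by rw [TensorProduct.tmul_add, hy, hz, add_zero]
        rw [TensorProduct.tmul_smul, TensorProduct.smul_tmul', hW r hr, TensorProduct.zero_tmul]
      have hmem : ∀ q : Q, q ∈ JQ ^ n ↔ q ∈ mP ^ n • (⊤ : Submodule P Q) := fun q => by
        rw [Ideal.smul_top_eq_map, Submodule.restrictScalars_mem, Ideal.map_pow]
      constructor
      · -- injectivity by the induced map on the quotients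
        let e := Submodule.mapQ (mP ^ n • ⊤ : Submodule P (Fin d → P)) (mP ^ n • ⊤ : Submodule P Q) ψ
          (Submodule.map_le_iff_le_comap.mp (by rw [Submodule.map_smul'']; exact Submodule.smul_mono le_rfl le_top))
        have hpi : ∀ b : Fin d → P, (∀ j, b j ∈ mP ^ n) → b ∈ mP ^ n • (⊤ : Submodule P (Fin d → P)) := fun b hb => by
          rw [← Finset.univ_sum_single b]
          refine Submodule.sum_mem _ fun j _ => ?_
          rw [show Pi.single j (b j) = b j • (Pi.single j (1 : P) : Fin d → P) by simp [← Pi.single_smul]]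
          exact Submodule.smul_mem_smul (hb j) trivial
        have he : Function.Bijective e := by
          constructor
          · rw [injective_iff_map_eq_zero]
            intro x hx
            obtain ⟨b, rfl⟩ := Submodule.mkQ_surjective _ x
            rw [Submodule.mkQ_apply, Submodule.mapQ_apply, Submodule.Quotient.mk_eq_zero] at hx
            rw [Submodule.mkQ_apply, Submodule.Quotient.mk_eq_zero]
            exact hpi b (hinjQ n b ((hmem _).mpr hx))
          · intro y
            obtain ⟨q, rfl⟩ := Submodule.mkQ_surjective _ y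
            obtain ⟨b, hb⟩ := hsurjQ n q
            exact ⟨Submodule.Quotient.mk b, ((Submodule.Quotient.eq _).mpr ((hmem _).mp hb)).symm⟩
        have hker : Function.Injective ((mP ^ n • ⊤ : Submodule P (Fin d → P)).mkQ.lTensor W) := by
          rw [injective_iff_map_eq_zero]
          intro x hx
          obtain ⟨y, rfl⟩ := (lTensor_exact W (LinearMap.exact_subtype_mkQ _) (Submodule.mkQ_surjective _) x).mp hx
          clear hx
          induction y with
          | zero => simp
          | tmul w m => rw [LinearMap.lTensor_tmul]; exact hzero _ m.2 w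
          | add y z hy hz => rw [map_add, hy, hz, add_zero]
        refine Function.Injective.of_comp (f := (mP ^ n • ⊤ : Submodule P Q).mkQ.lTensor W) ?_
        rw [← LinearMap.coe_comp, ← LinearMap.lTensor_comp, show (mP ^ n • ⊤ : Submodule P Q).mkQ ∘ₗ ψ =
          e ∘ₗ (mP ^ n • ⊤ : Submodule P (Fin d → P)).mkQ from rfl, LinearMap.lTensor_comp, LinearMap.coe_comp]
        exact ((LinearEquiv.ofBijective e he).lTensor W).injective.comp hker
      · intro x
        induction x with
        | zero => exact ⟨0, map_zero _⟩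
        | tmul w q =>
          obtain ⟨b, hb⟩ := hsurjQ n q
          refine ⟨w ⊗ₜ b, ?_⟩
          rw [LinearMap.lTensor_tmul, eq_comm, ← sub_eq_zero, ← TensorProduct.tmul_sub]
          exact hzero _ ((hmem _).mp hb) w
        | add y z hy hz =>
          obtain ⟨b, rfl⟩ := hy
          obtain ⟨b', rfl⟩ := hz
          exact ⟨b + b', map_add _ _ _⟩
    intro u w huw
    obtain ⟨u, rfl⟩ := (hbij X hX).2 u
    obtain ⟨w, rfl⟩ := (hbij X hX).2 w
    have hcomm : a.rTensor Q ∘ₗ ψ.lTensor X = ψ.lTensor Y ∘ₗ a.rTensor (Fin d → P) := by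
      rw [LinearMap.rTensor_comp_lTensor, LinearMap.lTensor_comp_rTensor]
    rw [← LinearMap.comp_apply, ← LinearMap.comp_apply (a.rTensor Q), hcomm, LinearMap.comp_apply,
      LinearMap.comp_apply] at huw
    exact congrArg _ (Module.Flat.rTensor_preserves_injective_linearMap a ha ((hbij Y hY').1 huw))
  · -- separability
    haveI : IsScalarTower P Q kA := IsScalarTower.of_algebraMap_eq fun x => by
      change residue A (algebraMap P A x) = residue A (algebraMap Q A (algebraMap P Q x))
      rw [← IsScalarTower.algebraMap_apply]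
    let kP := ResidueField P
    let kQ := ResidueField Q
    let i : kQ →+* kA := ResidueField.map (algebraMap Q A)
    let ρ : kP →+* kB := ResidueField.map (algebraMap P B)
    have hi : i.comp (algebraMap kP kQ) = (algebraMap kB kA).comp ρ := RingHom.ext fun x => by
      obtain ⟨x, rfl⟩ := residue_surjective x
      change residue A (algebraMap Q A (algebraMap P Q x)) = residue A (algebraMap B A (algebraMap P B x))
      rw [← IsScalarTower.algebraMap_apply, ← IsScalarTower.algebraMap_apply]
    set w : kQ := residue Q θ with hw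
    have hiw : i w = z := rfl
    obtain ⟨b, hb⟩ := hsurjQ 1 (θ ^ d)
    rw [pow_one, hmQ, ← residue_eq_zero_iff, map_sub, sub_eq_zero, map_pow] at hb
    simp only [ψ, Fintype.linearCombination_apply, Algebra.smul_def, map_sum, map_mul, map_pow] at hb
    let f : kP[X] := X ^ d - ∑ j : Fin d, C (residue P (b j)) * X ^ (j : ℕ)
    have hdeg : (∑ j : Fin d, C (residue P (b j)) * X ^ (j : ℕ)).degree < ((d : ℕ) : WithBot ℕ) :=
      (degree_sum_le _ _).trans_lt ((Finset.sup_lt_iff (by simp)).mpr fun j _ =>
        (degree_C_mul_X_pow_le _ _).trans_lt (Nat.cast_lt.mpr j.2))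
    have hfm : f.Monic := monic_X_pow_sub hdeg
    have hfd : f.natDegree = d := by
      refine natDegree_eq_of_degree_eq_some ?_
      rw [degree_sub_eq_left_of_degree_lt (by rwa [degree_X_pow]), degree_X_pow]
    have hfw : aeval w f = 0 := by
      simp only [f, map_sub, map_pow, aeval_X, map_sum, map_mul, aeval_C, sub_eq_zero]
      exact hb
    have hroot : aeval z (f.map ρ) = 0 := by
      rw [aeval_def, eval₂_map, ← hi, ← hiw, ← hom_eval₂, ← aeval_def, hfw, map_zero]
    have hmin : f.map ρ = minpoly kB z := by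
      refine eq_of_monic_of_dvd_of_natDegree_le (minpoly.monic hzint) (hfm.map ρ) (minpoly.dvd kB z hroot) ?_
      rw [natDegree_map, hfd]
    have hsep : IsSeparable kP w := by
      have : (f.map ρ).Separable := hmin ▸ Algebra.IsSeparable.isSeparable kB z
      exact (separable_map ρ |>.mp this).of_dvd (minpoly.dvd kP w hfw)
    refine ⟨fun x => ?_⟩
    haveI := (IntermediateField.isSeparable_adjoin_simple_iff_isSeparable (F := kP) (E := kQ)).mpr hsep
    suffices hx : x ∈ IntermediateField.adjoin kP {w} by
      have h := Algebra.IsSeparable.isSeparable kP (⟨x, hx⟩ : IntermediateField.adjoin kP {w})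
      rwa [IsSeparable, IntermediateField.minpoly_eq] at h
    obtain ⟨x, rfl⟩ := residue_surjective x
    obtain ⟨b, hb⟩ := hsurjQ 1 x
    rw [pow_one, hmQ, ← residue_eq_zero_iff, map_sub, sub_eq_zero] at hb
    rw [hb]
    simp only [ψ, Fintype.linearCombination_apply, Algebra.smul_def, map_sum, map_mul, map_pow]
    exact sum_mem fun j _ => mul_mem ((IntermediateField.adjoin kP {w}).algebraMap_mem (residue P (b j)))
      (pow_mem (IntermediateField.mem_adjoin_simple_self kP w) _)

end Groth.Agent.H85.LunaCore
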