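import Mathlib
import Groth.Agent.H85.LunaCore
import Groth.Agent.H85.EtaleCriterion

/-!
# Localising an action at a stable prime; the totally inertial case of Luna's étale lemma
-/

set_option autoImplicit false

universe u

noncomputable section

namespace Groth.Agent.H85.LunaLoc

open IsLocalRing

variable {A G : Type u} [CommRing A] [Group G] [MulSemiringAction G A] (x : Ideal A) [x.IsPrime]

theorem smul_mem (hI : ∀ (g : G) (a : A), g • a - a ∈ x) (g : G) {a : A} : g • a ∈ x ↔ a ∈ x :=
  ⟨fun hu => by simpa using x.sub_mem hu (hI g a), fun hv => by simpa using x.add_mem (hI g a) hv⟩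

theorem primeCompl_map (hI : ∀ (g : G) (a : A), g • a - a ∈ x) (g : G) :
    x.primeCompl.map (MulSemiringAction.toRingEquiv G A g).toMonoidHom = x.primeCompl := by
  ext a
  refine ⟨fun ⟨b, hb, hba⟩ => hba ▸ fun h => hb ((smul_mem x hI g).mp h), fun ha => ⟨g⁻¹ • a, fun h => ha ?_, smul_inv_smul g a⟩⟩
  exact (smul_mem x hI g⁻¹).mp h

/-- The action on the local ring. -/
def locHom (hI : ∀ (g : G) (a : A), g • a - a ∈ x) : G →* (Localization.AtPrime x ≃+* Localization.AtPrime x) where
  toFun g := IsLocalization.ringEquivOfRingEquiv _ _ (MulSemiringAction.toRingEquiv G A g) (primeCompl_map x hI g)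
  map_one' := by
    refine RingEquiv.toRingHom_injective (IsLocalization.ringHom_ext x.primeCompl (RingHom.ext fun a => ?_))
    simp [IsLocalization.ringEquivOfRingEquiv_eq]
  map_mul' g h := by
    refine RingEquiv.toRingHom_injective (IsLocalization.ringHom_ext x.primeCompl (RingHom.ext fun a => ?_))
    simp [IsLocalization.ringEquivOfRingEquiv_eq, mul_smul]

/-- The action on the local ring. -/
@[reducible] def locAction (hI : ∀ (g : G) (a : A), g • a - a ∈ x) : MulSemiringAction G (Localization.AtPrime x) :=
  MulSemiringAction.compHom _ (locHom x hI)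

theorem locAction_algebraMap (hI : ∀ (g : G) (a : A), g • a - a ∈ x) (g : G) (a : A) :
    letI := locAction x hI
    g • algebraMap A (Localization.AtPrime x) a = algebraMap A _ (g • a) :=
  IsLocalization.ringEquivOfRingEquiv_eq (primeCompl_map x hI g) a

variable {Q : Type u} [CommRing Q] [Algebra Q A] [Finite G] [SMulCommClass G Q A] [Algebra.IsInvariant Q A G]

theorem exists_norm (hI : ∀ (g : G) (a : A), g • a - a ∈ x) (s : A) (hs : s ∉ x) :
    ∃ (t : A) (n : Q), n ∉ x.under Q ∧ t * s = algebraMap Q A n := by
  classical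
  cases nonempty_fintype G
  obtain ⟨n, hn⟩ := Algebra.IsInvariant.isInvariant (A := Q) (G := G) (∏ g : G, g • s) fun h => by
    rw [Finset.smul_prod']
    exact Fintype.prod_equiv (Equiv.mulLeft h) _ _ fun g => by simp [mul_smul]
  refine ⟨∏ g ∈ Finset.univ.erase (1 : G), g • s, n, fun h => ?_, ?_⟩
  · have h' : algebraMap Q A n ∈ x := h
    rw [hn] at h'
    obtain ⟨g, -, hg⟩ := Ideal.IsPrime.prod_mem_iff.mp h'
    exact hs ((smul_mem x hI g).mp hg)
  · rw [hn, ← Finset.prod_erase_mul _ _ (Finset.mem_univ (1 : G)), one_smul]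

theorem isLocalization_atPrime (hI : ∀ (g : G) (a : A), g • a - a ∈ x) :
    IsLocalization (Algebra.algebraMapSubmonoid A (x.under Q).primeCompl) (Localization.AtPrime x) := by
  have hle : Algebra.algebraMapSubmonoid A (x.under Q).primeCompl ≤ x.primeCompl := by
    rintro _ ⟨n, hn, rfl⟩
    exact hn
  have hdvd : ∀ s ∉ x, ∃ m ∈ Algebra.algebraMapSubmonoid A (x.under Q).primeCompl, s ∣ m := fun s hs => by
    obtain ⟨t, n, hn, ht⟩ := exists_norm (Q := Q) x hI s hs
    exact ⟨_, ⟨n, hn, rfl⟩, t, by rw [mul_comm, ht]⟩
  refine ⟨⟨fun y => IsLocalization.map_units _ (⟨y.1, hle y.2⟩ : x.primeCompl), fun z => ?_, fun {a b} hab => ?_⟩⟩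
  · obtain ⟨⟨a, s⟩, hz⟩ := IsLocalization.surj x.primeCompl z
    obtain ⟨m, hm, c, rfl⟩ := hdvd s s.2
    refine ⟨⟨a * c, ⟨_, hm⟩⟩, ?_⟩
    rw [map_mul, ← mul_assoc, hz, map_mul]
  · obtain ⟨s, hs⟩ := (IsLocalization.eq_iff_exists x.primeCompl _).mp hab
    obtain ⟨m, hm, c, hc⟩ := hdvd s s.2
    refine ⟨⟨m, hm⟩, ?_⟩
    change m * a = m * b
    rw [hc, mul_comm (s : A) c, mul_assoc, hs, mul_assoc]

/-- The local ring over the localised invariants. -/
theorem locData (hI : ∀ (g : G) (a : A), g • a - a ∈ x) [Module.Finite Q A]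
    (hinj : Function.Injective (algebraMap Q A)) :
    letI := locAction x hI
    letI := Localization.AtPrime.algebraOfLiesOver (x.under Q) x
    Algebra.IsInvariant (Localization.AtPrime (x.under Q)) (Localization.AtPrime x) G ∧
      SMulCommClass G (Localization.AtPrime (x.under Q)) (Localization.AtPrime x) ∧
      Module.Finite (Localization.AtPrime (x.under Q)) (Localization.AtPrime x) ∧
      Function.Injective (algebraMap (Localization.AtPrime (x.under Q)) (Localization.AtPrime x)) := by
  classical
  letI := locAction x hI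
  letI := Localization.AtPrime.algebraOfLiesOver (x.under Q) x
  cases nonempty_fintype G
  haveI := isLocalization_atPrime (Q := Q) x hI
  let L := Localization.AtPrime (x.under Q)
  let AL := Localization.AtPrime x
  have hfix : ∀ (g : G) (r : L), g • algebraMap L AL r = algebraMap L AL r := by
    intro g r
    obtain ⟨q, n, rfl⟩ := IsLocalization.exists_mk'_eq (x.under Q).primeCompl r
    have h : ∀ q : Q, g • algebraMap L AL (algebraMap Q L q) = algebraMap L AL (algebraMap Q L q) := fun q => by
      rw [← IsScalarTower.algebraMap_apply, IsScalarTower.algebraMap_apply Q A AL, locAction_algebraMap,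
        Algebra.algebraMap_eq_smul_one (A := A) q, smul_comm, smul_one]
    apply ((IsLocalization.map_units L n).map (algebraMap L AL)).mul_left_injective
    change g • algebraMap L AL (IsLocalization.mk' L q n) * algebraMap L AL (algebraMap Q L n) = _
    conv_lhs => rw [← h n, ← smul_mul', ← map_mul, IsLocalization.mk'_spec, h]
    change _ = algebraMap L AL (IsLocalization.mk' L q n) * algebraMap L AL (algebraMap Q L n)
    rw [← map_mul, IsLocalization.mk'_spec]
  refine ⟨⟨fun z hz => ?_⟩, ⟨fun g r z => ?_⟩, ?_, ?_⟩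
  · obtain ⟨⟨a, ⟨_, n, hn, rfl⟩⟩, hza⟩ := IsLocalization.surj (Algebra.algebraMapSubmonoid A (x.under Q).primeCompl) z
    have hza' : z * algebraMap A AL (algebraMap Q A n) = algebraMap A AL a := hza
    have hfixa : ∀ g : G, algebraMap A AL (g • a) = algebraMap A AL a := fun g => by
      rw [← locAction_algebraMap x hI, ← hza', smul_mul', hz, locAction_algebraMap,
        Algebra.algebraMap_eq_smul_one (A := A) n, smul_comm, smul_one]
    choose t ht using fun g => (IsLocalization.eq_iff_exists (Algebra.algebraMapSubmonoid A (x.under Q).primeCompl) AL).mp (hfixa g)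
    choose nt hnt hnt' using fun g => (t g).2
    let T : Q := ∏ g, nt g
    have hT : T ∉ x.under Q := fun h => by
      obtain ⟨g, -, hg⟩ := Ideal.IsPrime.prod_mem_iff.mp h
      exact hnt g hg
    obtain ⟨q, hq⟩ := Algebra.IsInvariant.isInvariant (A := Q) (G := G) (algebraMap Q A T * a) fun g => by
      rw [smul_mul', Algebra.algebraMap_eq_smul_one (A := A) T, smul_comm, smul_one, ← Algebra.algebraMap_eq_smul_one,
        show T = nt g * ∏ g' ∈ Finset.univ.erase g, nt g' from (Finset.mul_prod_erase _ _ (Finset.mem_univ g)).symm,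
        map_mul, mul_comm (algebraMap Q A (nt g)), mul_assoc, mul_assoc, hnt' g]
      exact congrArg _ (ht g)
    refine ⟨IsLocalization.mk' L q (⟨T, hT⟩ * ⟨n, hn⟩ : (x.under Q).primeCompl), ?_⟩
    apply ((IsLocalization.map_units L (⟨T, hT⟩ * ⟨n, hn⟩ : (x.under Q).primeCompl)).map (algebraMap L AL)).mul_left_injective
    change algebraMap L AL (IsLocalization.mk' L q (⟨T, hT⟩ * ⟨n, hn⟩ : (x.under Q).primeCompl)) * algebraMap L AL (algebraMap Q L (T * n)) =
      z * algebraMap L AL (algebraMap Q L (T * n))
    rw [← map_mul, show IsLocalization.mk' L q (⟨T, hT⟩ * ⟨n, hn⟩ : (x.under Q).primeCompl) * algebraMap Q L (T * n) =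
        algebraMap Q L q from IsLocalization.mk'_spec L q _, ← IsScalarTower.algebraMap_apply, ← IsScalarTower.algebraMap_apply,
      IsScalarTower.algebraMap_apply Q A AL q, hq, map_mul, map_mul, IsScalarTower.algebraMap_apply Q A AL n,
      mul_left_comm, hza', ← IsScalarTower.algebraMap_apply]
  · rw [Algebra.smul_def, Algebra.smul_def, smul_mul', hfix]
  · haveI : IsScalarTower Q (Localization.AtPrime (x.under Q)) AL := inferInstance
    exact Module.Finite.of_isLocalization Q A (x.under Q).primeCompl
  · rw [injective_iff_map_eq_zero]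
    intro r hr
    obtain ⟨q, n, rfl⟩ := IsLocalization.exists_mk'_eq (x.under Q).primeCompl r
    have h0 : algebraMap A AL (algebraMap Q A q) = algebraMap A AL 0 := by
      rw [map_zero, ← IsScalarTower.algebraMap_apply, IsScalarTower.algebraMap_apply Q L AL,
        ← IsLocalization.mk'_spec L q n, map_mul, hr, zero_mul]
    obtain ⟨⟨_, t, ht, rfl⟩, hts⟩ := (IsLocalization.eq_iff_exists (Algebra.algebraMapSubmonoid A (x.under Q).primeCompl) AL).mp h0
    rw [mul_zero, ← map_mul] at hts
    rw [IsLocalization.mk'_eq_zero_iff]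
    exact ⟨⟨t, ht⟩, hinj (hts.trans (map_zero _).symm)⟩

theorem flat_of_isEtaleAt {R S : Type u} [CommRing R] [CommRing S] [Algebra R S] [Algebra.FinitePresentation R S]
    (P : Ideal S) [P.IsPrime] [Algebra.IsEtaleAt R P] : Module.Flat R (Localization.AtPrime P) := by
  obtain ⟨f, hf, hEt⟩ := Algebra.exists_etale_of_isEtaleAt (R := R) P
  let TP := Localization.AtPrime P
  let j : Localization.Away f →ₐ[S] TP := IsLocalization.liftAlgHom (M := Submonoid.powers f) (f := Algebra.ofId S TP)
    (by rintro ⟨_, n, rfl⟩; simpa using (IsLocalization.map_units TP (⟨f, hf⟩ : P.primeCompl)).pow n)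
  letI := j.toRingHom.toAlgebra
  haveI : IsScalarTower S (Localization.Away f) TP := .of_algebraMap_eq fun x => (j.commutes x).symm
  haveI : IsScalarTower R (Localization.Away f) TP := .to₁₃₄ R S _ _
  haveI : IsLocalization (Algebra.algebraMapSubmonoid (Localization.Away f) P.primeCompl) TP :=
    IsLocalization.isLocalization_of_submonoid_le (Localization.Away f) TP (Submonoid.powers f) P.primeCompl
      (Submonoid.powers_le.mpr hf)
  haveI := IsLocalization.flat TP (Algebra.algebraMapSubmonoid (Localization.Away f) P.primeCompl)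
  exact Module.Flat.trans R (Localization.Away f) TP

section Main

variable {P Q B A G : Type u} [CommRing P] [CommRing Q] [CommRing B] [CommRing A] [IsNoetherianRing P]
  [IsNoetherianRing Q] [Algebra P Q] [Algebra P B] [Algebra Q A] [Algebra B A] [Algebra P A]
  [IsScalarTower P Q A] [IsScalarTower P B A] [Module.Finite P B] [Module.Finite Q A]
  [Algebra.FinitePresentation P Q] [Algebra.FinitePresentation B A]
  [Group G] [Finite G] [MulSemiringAction G B] [MulSemiringAction G A] [SMulCommClass G P B] [SMulCommClass G Q A]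
  [Algebra.IsInvariant P B G] [Algebra.IsInvariant Q A G]

/-- Luna's étale lemma when the whole group is inertia. -/
theorem isEtaleAt_of_inertia_top (hP : Function.Injective (algebraMap P B)) (hQ : Function.Injective (algebraMap Q A))
    (hGeq : ∀ (g : G) (b : B), algebraMap B A (g • b) = g • algebraMap B A b) (x : Ideal A) [x.IsPrime]
    [Algebra.IsEtaleAt B x] (hIA : ∀ (g : G) (a : A), g • a - a ∈ x)
    (hIB : ∀ (g : G) (b : B), g • b - b ∈ x.under B) : Algebra.IsEtaleAt P (x.under Q) := by
  classical
  let y := x.under B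
  let q := x.under Q
  let p := y.under P
  haveI hqp : q.LiesOver p := ⟨by
    simp only [p, q, y, Ideal.under, Ideal.comap_comap, ← IsScalarTower.algebraMap_eq]⟩
  haveI hxp : x.LiesOver p := Ideal.LiesOver.trans x y p
  letI := locAction x hIA
  letI := locAction y hIB
  letI := Localization.AtPrime.algebraOfLiesOver q x
  letI := Localization.AtPrime.algebraOfLiesOver p y
  letI := Localization.AtPrime.algebraOfLiesOver y x
  letI := Localization.AtPrime.algebraOfLiesOver p q
  letI := Localization.AtPrime.algebraOfLiesOver p x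
  obtain ⟨hinvA, hcA, hfinA, hinjA⟩ := locData x hIA hQ
  obtain ⟨hinvB, hcB, hfinB, hinjB⟩ := locData y hIB hP
  let Pp := Localization.AtPrime p
  let Qq := Localization.AtPrime q
  let By := Localization.AtPrime y
  let Ax := Localization.AtPrime x
  haveI : IsScalarTower Pp Qq Ax := inferInstance
  haveI : IsScalarTower Pp By Ax := inferInstance
  haveI : IsNoetherianRing B := IsNoetherianRing.of_finite P B
  haveI : Module.Flat B Ax := flat_of_isEtaleAt x
  haveI : Module.Flat By Ax := (Module.flat_iff_of_isLocalization By y.primeCompl Ax).mpr ‹_›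
  haveI : Algebra.IsUnramifiedAt B x := ⟨inferInstance⟩
  obtain ⟨hsep, hmax⟩ := (Algebra.isUnramifiedAt_iff_map_eq B y x).mp inferInstance
  haveI : Algebra.IsSeparable (ResidueField By) (ResidueField Ax) := hsep
  haveI : Module.Finite (ResidueField By) (ResidueField Ax) := inferInstanceAs (Module.Finite y.ResidueField x.ResidueField)
  have hunr : (maximalIdeal By).map (algebraMap By Ax) = maximalIdeal Ax := by
    rw [← Localization.AtPrime.map_eq_maximalIdeal, Ideal.map_map, ← IsScalarTower.algebraMap_eq]
    exact hmax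
  have hIx : ∀ (g : G) (a : Ax), g • a - a ∈ maximalIdeal Ax := by
    intro g a
    obtain ⟨b, s, rfl⟩ := IsLocalization.exists_mk'_eq x.primeCompl a
    refine (Ideal.unit_mul_mem_iff_mem _ (IsLocalization.map_units Ax s)).mp ?_
    have h1 : algebraMap A Ax s - g • algebraMap A Ax s ∈ maximalIdeal Ax := by
      rw [locAction_algebraMap, ← map_sub, IsLocalization.AtPrime.to_map_mem_maximal_iff Ax x, ← neg_sub]
      exact x.neg_mem (hIA g s)
    have h2 : algebraMap A Ax b - g • algebraMap A Ax b ∈ maximalIdeal Ax := by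
      rw [locAction_algebraMap, ← map_sub, IsLocalization.AtPrime.to_map_mem_maximal_iff Ax x, ← neg_sub]
      exact x.neg_mem (hIA g b)
    have hz : IsLocalization.mk' Ax b s * algebraMap A Ax s = algebraMap A Ax b := IsLocalization.mk'_spec Ax b s
    have : algebraMap A Ax s * (g • IsLocalization.mk' Ax b s - IsLocalization.mk' Ax b s) =
        (algebraMap A Ax s - g • algebraMap A Ax s) * g • IsLocalization.mk' Ax b s - (algebraMap A Ax b - g • algebraMap A Ax b) := by
      rw [← hz, smul_mul']; ring
    rw [this]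
    exact sub_mem (Ideal.mul_mem_right _ _ h1) h2
  have hGeqL : ∀ (g : G) (b : By), algebraMap By Ax (g • b) = g • algebraMap By Ax b := by
    intro g
    refine fun b => RingHom.congr_fun (f := (algebraMap By Ax).comp (MulSemiringAction.toRingHom G By g))
      (g := (MulSemiringAction.toRingHom G Ax g).comp (algebraMap By Ax)) (IsLocalization.ringHom_ext y.primeCompl (RingHom.ext fun b => ?_)) b
    simp only [RingHom.comp_apply, MulSemiringAction.toRingHom_apply]
    rw [locAction_algebraMap, ← IsScalarTower.algebraMap_apply, ← IsScalarTower.algebraMap_apply,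
      IsScalarTower.algebraMap_apply B A Ax, IsScalarTower.algebraMap_apply B A Ax, hGeq, locAction_algebraMap]
  obtain ⟨hflat, hm, hsepQ⟩ := LunaCore.flat_and_unramified (P := Pp) (Q := Qq) (B := By) (A := Ax) (G := G)
    hinjB hinjA hGeqL hIx hunr
  haveI : Algebra.EssFiniteType P Q := inferInstance
  haveI : Algebra.IsUnramifiedAt P q := (Algebra.isUnramifiedAt_iff_map_eq P p q).mpr ⟨hsepQ, by
    rw [← hm, ← Localization.AtPrime.map_eq_maximalIdeal, Ideal.map_map, ← IsScalarTower.algebraMap_eq]⟩
  haveI : Module.Flat Pp Qq := hflat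
  haveI : Module.Flat P Qq := Module.Flat.trans P Pp Qq
  exact EtaleCriterion.isEtaleAt_of_flat_of_unramified q

end Main

end Groth.Agent.H85.LunaLoc
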