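import Mathlib
import Groth.Agent.H85.LunaLoc
import Groth.Agent.H85.InertiaEtale

/-!
# Luna's étale lemma for finite groups
-/

set_option autoImplicit false

universe u

noncomputable section

namespace Groth.Agent.H85.LunaMain

/-- The invariants of a finite group on a finite type algebra over a Noetherian ring. -/
theorem finiteType_and_finite (R : Type u) [CommRing R] [IsNoetherianRing R] (A : Type u) [CommRing A] [Algebra R A]
    [Algebra.FiniteType R A] (H : Type u) [Group H] [Finite H] [MulSemiringAction H A]
    (Q : Type u) [CommRing Q] [Algebra R Q] [Algebra Q A] [IsScalarTower R Q A] [SMulCommClass H Q A]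
    [Algebra.IsInvariant Q A H] (hinj : Function.Injective (algebraMap Q A)) :
    Algebra.FiniteType R Q ∧ Module.Finite Q A := by
  haveI : Algebra.IsIntegral Q A := Algebra.IsInvariant.isIntegral Q A H
  haveI : Algebra.FiniteType Q A := Algebra.FiniteType.of_restrictScalars_finiteType R Q A
  haveI : Module.Finite Q A := Algebra.IsIntegral.finite
  exact ⟨⟨fg_of_fg_of_fg R Q A Algebra.FiniteType.out Module.Finite.fg_top hinj⟩, inferInstance⟩

set_option maxHeartbeats 800000 in
/-- The inertia invariants are étale over the invariants at the prime below, for subalgebras. -/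
theorem isEtaleAt_inertia (R : Type u) [CommRing R] (A : Type u) [CommRing A] [Algebra R A]
    (G : Type u) [Group G] [Finite G] [MulSemiringAction G A] [SMulCommClass G R A] (x : Ideal A) [x.IsPrime]
    (I : Subgroup G) (hI : x.inertia G = I)
    [Algebra (FixedPoints.subalgebra R A G) (FixedPoints.subalgebra R A I)]
    [IsScalarTower (FixedPoints.subalgebra R A G) (FixedPoints.subalgebra R A I) A] :
    Algebra.IsEtaleAt (FixedPoints.subalgebra R A G) (x.under (FixedPoints.subalgebra R A I)) := by
  classical
  subst hI
  let A1 := FixedPoints.subalgebra R A G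
  let I := x.inertia G
  let A2 := FixedPoints.subalgebra R A I
  have hval : ∀ a : A1, (algebraMap A1 A2 a : A) = a := fun a =>
    (IsScalarTower.algebraMap_apply A1 A2 A a).symm
  obtain ⟨δ, hδ, hEt⟩ := InertiaEtale.exists_etale (G := G) x
  change FixedPoints.subring A I at δ
  let i : A1 →+* FixedPoints.subring A G := A1.val.toRingHom.codRestrict (FixedPoints.subring A G) fun a => a.2
  let δ' : A2 := ⟨δ.1, δ.2⟩
  let j : A2 →+* FixedPoints.subring A I := A2.val.toRingHom.codRestrict (FixedPoints.subring A I) fun a => a.2
  have hi : Function.Bijective i := ⟨fun a b h => Subtype.ext (congrArg Subtype.val h), fun a => ⟨⟨a.1, a.2⟩, rfl⟩⟩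
  have hj : Function.Bijective j := ⟨fun a b h => Subtype.ext (congrArg Subtype.val h), fun a => ⟨⟨a.1, a.2⟩, rfl⟩⟩
  let je := RingEquiv.ofBijective j hj
  let L := IsLocalization.ringEquivOfRingEquiv (M := Submonoid.powers δ') (T := Submonoid.powers δ)
    (Localization.Away δ') (Localization.Away δ) je (by simp [Submonoid.map_powers]; rfl)
  have hcomp : (L : Localization.Away δ' →+* Localization.Away δ).comp (algebraMap A1 (Localization.Away δ')) =
      (algebraMap (FixedPoints.subring A G) (Localization.Away δ)).comp i := RingHom.ext fun a => by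
    change L (algebraMap A2 (Localization.Away δ') (algebraMap A1 A2 a)) =
      algebraMap (FixedPoints.subring A I) _ (algebraMap (FixedPoints.subring A G) (FixedPoints.subring A I) (i a))
    rw [IsLocalization.ringEquivOfRingEquiv_eq]
    exact congrArg _ (Subtype.ext (hval a))
  have h1 : ((algebraMap (FixedPoints.subring A G) (Localization.Away δ)).comp i).Etale :=
    RingHom.Etale.stableUnderComposition _ _ (RingHom.Etale.of_bijective hi) (RingHom.etale_algebraMap.mpr hEt)
  rw [← hcomp] at h1
  have h2 : (algebraMap A1 (Localization.Away δ')).Etale := by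
    have := RingHom.Etale.stableUnderComposition _ _ h1 (show (L.symm : Localization.Away δ →+* Localization.Away δ').Etale from RingHom.Etale.of_bijective L.symm.bijective)
    rwa [← RingHom.comp_assoc, RingEquiv.symm_comp, RingHom.id_comp] at this
  have : Algebra.Etale A1 (Localization.Away δ') := RingHom.etale_algebraMap.mp h2
  exact Algebra.basicOpen_subset_etaleLocus_iff.mpr inferInstance
    (show (⟨x.under A2, inferInstance⟩ : PrimeSpectrum A2) ∈ PrimeSpectrum.basicOpen δ' from hδ)

set_option maxHeartbeats 800000 in
/-- Luna's étale lemma. -/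
theorem isEtaleAt_fixedPoints (R : Type u) [CommRing R]
    [IsNoetherianRing R] (A B : Type u) [CommRing A] [CommRing B] [Algebra R A] [Algebra R B]
    [Algebra.FiniteType R A] [Algebra.FiniteType R B]
    (G : Type u) [Group G] [Finite G] [MulSemiringAction G A] [MulSemiringAction G B]
    [SMulCommClass G R A] [SMulCommClass G R B]
    [Algebra B A] [IsScalarTower R B A]
    (hGeq : ∀ (g : G) (b : B), algebraMap B A (g • b) = g • algebraMap B A b)
    [Algebra (FixedPoints.subalgebra R B G) (FixedPoints.subalgebra R A G)]
    [IsScalarTower (FixedPoints.subalgebra R B G) (FixedPoints.subalgebra R A G) A]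
    (x : Ideal A) [x.IsPrime] [Algebra.IsEtaleAt B x]
    (hin : x.inertia G = (x.comap (algebraMap B A)).inertia G) :
    Algebra.IsEtaleAt (FixedPoints.subalgebra R B G)
      (x.comap (algebraMap (FixedPoints.subalgebra R A G) A)) := by
  classical
  let A1 := FixedPoints.subalgebra R A G
  let B1 := FixedPoints.subalgebra R B G
  let I := x.inertia G
  let A2 := FixedPoints.subalgebra R A I
  let B2 := FixedPoints.subalgebra R B I
  haveI : SMulCommClass G A1 A := ⟨fun g a z => by
    change g • ((a : A) * z) = (a : A) * (g • z)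
    rw [smul_mul']
    exact congrArg (· * _) (a.2 g)⟩
  haveI : SMulCommClass G B1 B := ⟨fun g a z => by
    change g • ((a : B) * z) = (a : B) * (g • z)
    rw [smul_mul']
    exact congrArg (· * _) (a.2 g)⟩
  haveI : SMulCommClass I A2 A := ⟨fun g a z => by
    change (g : G) • ((a : A) * z) = (a : A) * ((g : G) • z)
    rw [smul_mul']
    exact congrArg (· * _) (a.2 g)⟩
  haveI : SMulCommClass I B2 B := ⟨fun g a z => by
    change (g : G) • ((a : B) * z) = (a : B) * ((g : G) • z)
    rw [smul_mul']
    exact congrArg (· * _) (a.2 g)⟩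
  haveI : Algebra.IsInvariant A1 A G := ⟨fun a ha => ⟨⟨a, ha⟩, rfl⟩⟩
  haveI : Algebra.IsInvariant B1 B G := ⟨fun a ha => ⟨⟨a, ha⟩, rfl⟩⟩
  haveI : Algebra.IsInvariant A2 A I := ⟨fun a ha => ⟨⟨a, ha⟩, rfl⟩⟩
  haveI : Algebra.IsInvariant B2 B I := ⟨fun a ha => ⟨⟨a, ha⟩, rfl⟩⟩
  obtain ⟨hA1, hA1'⟩ := finiteType_and_finite R A G A1 Subtype.val_injective
  obtain ⟨hB1, hB1'⟩ := finiteType_and_finite R B G B1 Subtype.val_injective
  obtain ⟨hA2, hA2'⟩ := finiteType_and_finite R A I A2 Subtype.val_injective
  obtain ⟨hB2, hB2'⟩ := finiteType_and_finite R B I B2 Subtype.val_injective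
  haveI : IsNoetherianRing A1 := Algebra.FiniteType.isNoetherianRing R A1
  haveI : IsNoetherianRing B1 := Algebra.FiniteType.isNoetherianRing R B1
  haveI : IsNoetherianRing A2 := Algebra.FiniteType.isNoetherianRing R A2
  haveI : IsNoetherianRing B2 := Algebra.FiniteType.isNoetherianRing R B2
  haveI : IsNoetherianRing B := Algebra.FiniteType.isNoetherianRing R B
  -- the maps between the invariant rings
  letI a12 : Algebra A1 A2 := (Subalgebra.inclusion (show A1 ≤ A2 from fun a ha g => ha (g : G))).toRingHom.toAlgebra
  letI b12 : Algebra B1 B2 := (Subalgebra.inclusion (show B1 ≤ B2 from fun a ha g => ha (g : G))).toRingHom.toAlgebra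
  letI ab : Algebra B2 A2 := (((algebraMap B A).comp B2.val.toRingHom).codRestrict A2 fun b g => by
    change (g : G) • algebraMap B A b.1 = algebraMap B A b.1
    rw [← hGeq]
    exact congrArg _ (b.2 g)).toAlgebra
  letI : Algebra B1 A2 := ((algebraMap A1 A2).comp (algebraMap B1 A1)).toAlgebra
  haveI : IsScalarTower A1 A2 A := IsScalarTower.of_algebraMap_eq fun _ => rfl
  haveI : IsScalarTower B1 B2 B := IsScalarTower.of_algebraMap_eq fun _ => rfl
  haveI : IsScalarTower R A1 A2 := IsScalarTower.of_algebraMap_eq fun _ => rfl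
  haveI : IsScalarTower R B1 B2 := IsScalarTower.of_algebraMap_eq fun _ => rfl
  haveI : IsScalarTower R B2 A2 := IsScalarTower.of_algebraMap_eq fun r => Subtype.ext (IsScalarTower.algebraMap_apply R B A r)
  haveI : IsScalarTower B2 B A := IsScalarTower.of_algebraMap_eq fun _ => rfl
  haveI : IsScalarTower B2 A2 A := IsScalarTower.of_algebraMap_eq fun _ => rfl
  haveI : IsScalarTower B1 A1 A2 := IsScalarTower.of_algebraMap_eq fun _ => rfl
  haveI : IsScalarTower B1 B2 A2 := IsScalarTower.of_algebraMap_eq fun b => Subtype.ext (by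
    change algebraMap A1 A (algebraMap B1 A1 b) = algebraMap B A b.1
    rw [← IsScalarTower.algebraMap_apply]
    rfl)
  haveI : IsScalarTower R B1 A1 := IsScalarTower.of_algebraMap_eq fun r => Subtype.ext (by
    change algebraMap R A r = algebraMap A1 A (algebraMap B1 A1 (algebraMap R B1 r))
    rw [← IsScalarTower.algebraMap_apply B1 A1 A]
    exact IsScalarTower.algebraMap_apply R B A r)
  haveI : IsScalarTower R B1 A2 := IsScalarTower.of_algebraMap_eq fun r => by
    rw [IsScalarTower.algebraMap_apply B1 A1 A2, ← IsScalarTower.algebraMap_apply R B1 A1,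
      ← IsScalarTower.algebraMap_apply R A1 A2]
  haveI : Algebra.FiniteType B1 A1 := Algebra.FiniteType.of_restrictScalars_finiteType R B1 A1
  haveI : Algebra.FiniteType B1 A2 := Algebra.FiniteType.of_restrictScalars_finiteType R B1 A2
  haveI : Algebra.FiniteType B2 A2 := Algebra.FiniteType.of_restrictScalars_finiteType R B2 A2
  haveI : Algebra.FiniteType A1 A2 := Algebra.FiniteType.of_restrictScalars_finiteType R A1 A2
  haveI : Algebra.FiniteType B A := Algebra.FiniteType.of_restrictScalars_finiteType R B A
  haveI : Algebra.FinitePresentation B1 A1 := Algebra.FinitePresentation.of_finiteType.mp ‹_›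
  haveI : Algebra.FinitePresentation B1 A2 := Algebra.FinitePresentation.of_finiteType.mp ‹_›
  haveI : Algebra.FinitePresentation B2 A2 := Algebra.FinitePresentation.of_finiteType.mp ‹_›
  haveI : Algebra.FinitePresentation A1 A2 := Algebra.FinitePresentation.of_finiteType.mp ‹_›
  haveI : Algebra.FinitePresentation B A := Algebra.FinitePresentation.of_finiteType.mp ‹_›
  -- the totally inertial case
  have hI2 : Algebra.IsEtaleAt B2 (x.under A2) :=
    LunaLoc.isEtaleAt_of_inertia_top (P := B2) (Q := A2) (B := B) (A := A) (G := I) Subtype.val_injective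
      Subtype.val_injective (fun g b => hGeq g b) x (fun g a => g.2 a) (fun g b => by
        have h : (g : G) ∈ (x.comap (algebraMap B A)).inertia G := hin ▸ g.2
        exact h b)
  -- inertia invariants are étale
  have hA : Algebra.IsEtaleAt A1 (x.under A2) := isEtaleAt_inertia R A G x I rfl
  have hB : Algebra.IsEtaleAt B1 ((x.under A2).under B2) :=
    isEtaleAt_inertia R B G (x.comap (algebraMap B A)) I hin.symm
  haveI := hA
  haveI := hI2
  haveI := hB
  haveI : Algebra.IsEtaleAt B1 (x.under A2) := Algebra.IsEtaleAt.comp ((x.under A2).under B2) (x.under A2)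
  have hover : (x.under A2).LiesOver (x.comap (algebraMap A1 A)) := ⟨rfl⟩
  exact EtaleCriterion.isEtaleAt_of_comp (R := B1) (S := A1) (T := A2) (x.comap (algebraMap A1 A)) (x.under A2)

end Groth.Agent.H85.LunaMain
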