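import Groth.Prelude.Def_Versch
import Groth.Prelude.Def_SGA3b
import Groth.Agent.OortTate.Pairing
import Groth.Agent.OortTate.BaseChange
import Mathlib

/-!
# The Verschiebung in a dual basis
-/

open Coalgebra Bialgebra TensorProduct WithConv

universe u

namespace Groth.Agent.H85

open Groth.Agent.OortTate.Pairing Groth.Agent.FinHopf.Deligne

variable {p : ℕ} [Fact p.Prime] {R : Type u} [CommRing R] [CharP R p]
  {A : Type u} [CommRing A] [HopfAlgebra R A]

theorem relFrob_tmul [CharP A p] (b : A) (s : FrobAlg.Twist p R) :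
    FrobAlg.relFrob p R A (b ⊗ₜ s) = b ^ p * algebraMap R A ((FrobAlg.toTwist p R).symm s) := by
  simp [FrobAlg.relFrob, FrobAlg.frobHom, FrobAlg.inclHom, Algebra.TensorProduct.lift_tmul, frobenius_def]

theorem exists_dual_family [Module.Finite R A] [Module.Projective R A] :
    ∃ (n : ℕ) (e : Fin n → A) (φ : Fin n → CartDual.D R A), ∀ a : A, ∑ i, φ i a • e i = a := by
  obtain ⟨n, f, g, -, -, hfg⟩ := Module.Finite.exists_comp_eq_id_of_projective R A
  refine ⟨n, fun i => f (Pi.single i 1), fun i => toConv (LinearMap.proj i ∘ₗ g), fun a => ?_⟩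
  conv_rhs => rw [← LinearMap.id_apply (R := R) a, ← hfg, LinearMap.comp_apply]
  have h : g a = ∑ i, g a i • (Pi.single i 1 : Fin n → R) := pi_eq_sum_univ' (g a)
  conv_rhs => rw [h, map_sum]
  exact Finset.sum_congr rfl fun i _ => by simp [CartDual.coe_apply]

theorem evTw_separate {n : ℕ} {e : Fin n → A} {φ : Fin n → CartDual.D R A}
    (hb : ∀ a : A, ∑ i, φ i a • e i = a) (z : FrobAlg.BaseChange p R A) :
    ∑ i, e i ⊗ₜ[R] Versch.evTw p R A (φ i) z = z := by
  induction z using TensorProduct.induction_on with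
  | zero => simp
  | add w w' hw hw' => simp only [map_add, TensorProduct.tmul_add, Finset.sum_add_distrib, hw, hw']
  | tmul a s =>
    conv_rhs => rw [← hb a, TensorProduct.sum_tmul]
    refine Finset.sum_congr rfl fun i _ => ?_
    rw [Versch.evTw_tmul, ← Algebra.smul_def, TensorProduct.tmul_smul, TensorProduct.smul_tmul']

variable [Coalgebra.IsCocomm R A] [Module.Finite R A] [Module.Projective R A]

theorem algebraMap_conv_injective :
    Function.Injective (algebraMap R (WithConv (A →ₗ[R] A))) := by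
  intro r s h
  have h1 := congrArg (fun x : WithConv (A →ₗ[R] A) => counit (R := R) (x 1)) h
  simpa [LinearMap.convAlgebraMap_apply] using h1

theorem powConv_prime {n : ℕ} {e : Fin n → A} {φ : Fin n → CartDual.D R A}
    (hb : ∀ a : A, ∑ i, φ i a • e i = a) (a : A) :
    SGA3b.powConv R A p a = ∑ i, (φ i ^ p) a • e i ^ p := by
  haveI : CharP (WithConv (A →ₗ[R] A)) p := charP_of_injective_algebraMap algebraMap_conv_injective p
  haveI : ExpChar (WithConv (A →ₗ[R] A)) p := ExpChar.prime Fact.out
  have hid : (toConv (LinearMap.id : A →ₗ[R] A)) = ∑ i, psi R A (e i ⊗ₜ φ i) := by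
    apply WithConv.ext; ext x
    simp only [WithConv.ofConv_sum, LinearMap.sum_apply, LinearMap.id_apply]
    conv_lhs => rw [← hb x]
    exact Finset.sum_congr rfl fun i _ => (psi_tmul _ _ x).symm
  have h : linHom (toConv (SGA3b.powConv R A p)) = ∑ i, psi R A ((e i ^ p) ⊗ₜ (φ i ^ p)) := by
    rw [OortTate.Eigen.toConv_powConv, map_pow]
    change (toConv (LinearMap.id : A →ₗ[R] A)) ^ p = _
    rw [hid, sum_pow_char p]
    exact Finset.sum_congr rfl fun i _ => by
      simpa using (psi_prod (R := R) (A := A) (fun _ : Fin p => e i) (fun _ => φ i)).symm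
  have h' := congrArg (fun x : WithConv (A →ₗ[R] A) => x a) h
  simp only [WithConv.ofConv_sum, LinearMap.sum_apply] at h'
  exact h'.trans (Finset.sum_congr rfl fun i _ => psi_tmul _ _ a)

theorem verschiebung_eq {v : A →+* FrobAlg.BaseChange p R A} (hv : Versch.IsVerschiebung p R A v)
    {n : ℕ} {e : Fin n → A} {φ : Fin n → CartDual.D R A}
    (hb : ∀ a : A, ∑ i, φ i a • e i = a) (a : A) :
    v a = ∑ i, e i ⊗ₜ[R] FrobAlg.toTwist p R ((φ i ^ p) a) := by
  rw [Versch.isVerschiebung_iff] at hv
  conv_lhs => rw [← evTw_separate hb (v a)]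
  exact Finset.sum_congr rfl fun i _ => by rw [hv]

theorem relFrob_comp_verschiebung [CharP A p] {v : A →+* FrobAlg.BaseChange p R A}
    (hv : Versch.IsVerschiebung p R A v) :
    (FrobAlg.relFrob p R A).comp v = (SGA3b.powConv R A p).toRingHom := by
  obtain ⟨n, e, φ, hb⟩ := exists_dual_family (R := R) (A := A)
  ext a
  change FrobAlg.relFrob p R A (v a) = SGA3b.powConv R A p a
  rw [verschiebung_eq hv hb, powConv_prime (p := p) hb, map_sum]
  refine Finset.sum_congr rfl fun i _ => ?_
  rw [relFrob_tmul, RingEquiv.symm_apply_apply, Algebra.smul_def, mul_comm]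

theorem verschiebung_algebraMap {v : A →+* FrobAlg.BaseChange p R A}
    (hv : Versch.IsVerschiebung p R A v) (r : R) :
    v (algebraMap R A r) = (1 : A) ⊗ₜ[R] FrobAlg.toTwist p R r := by
  rw [Versch.isVerschiebung_iff] at hv
  apply Versch.evTw_injective
  intro x
  rw [hv, Versch.evTw_tmul', ← map_mul]
  congr 1
  rw [Algebra.algebraMap_eq_smul_one, CartDual.coe_apply, map_smul, smul_eq_mul, mul_comm]
  congr 1
  let ev1 : CartDual.D R A →* R :=
    { toFun := fun y => y 1
      map_one' := by simp [LinearMap.convOne_def]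
      map_mul' := fun y z => by simp [LinearMap.convMul_apply, Bialgebra.comul_one, Algebra.TensorProduct.one_def] }
  exact map_pow ev1 x p

end Groth.Agent.H85
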